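import Cfsg.Agent.CosetCert.ONIndex122760.Defs

/-! Generated: kernel checks. -/

set_option Elab.async false

namespace Cfsg.Agent.CosetCert.ONIndex122760

theorem rels_okAt24000 : allFrom data.checkRels 24000 500 = true := by decide +kernel

theorem rels_okAt24500 : allFrom data.checkRels 24500 500 = true := by decide +kernel

theorem rels_okAt25000 : allFrom data.checkRels 25000 500 = true := by decide +kernel

theorem rels_okAt25500 : allFrom data.checkRels 25500 500 = true := by decide +kernel

theorem rels_okAt26000 : allFrom data.checkRels 26000 500 = true := by decide +kernel

theorem rels_okAt26500 : allFrom data.checkRels 26500 500 = true := by decide +kernel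

theorem rels_okAt27000 : allFrom data.checkRels 27000 500 = true := by decide +kernel

theorem rels_okAt27500 : allFrom data.checkRels 27500 500 = true := by decide +kernel

theorem rels_okAt28000 : allFrom data.checkRels 28000 500 = true := by decide +kernel

theorem rels_okAt28500 : allFrom data.checkRels 28500 500 = true := by decide +kernel

theorem rels_okAt29000 : allFrom data.checkRels 29000 500 = true := by decide +kernel

theorem rels_okAt29500 : allFrom data.checkRels 29500 500 = true := by decide +kernel

theorem rels_okAt30000 : allFrom data.checkRels 30000 500 = true := by decide +kernel

theorem rels_okAt30500 : allFrom data.checkRels 30500 500 = true := by decide +kernel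

theorem rels_okAt31000 : allFrom data.checkRels 31000 500 = true := by decide +kernel

theorem rels_okAt31500 : allFrom data.checkRels 31500 500 = true := by decide +kernel

theorem rels_okAt32000 : allFrom data.checkRels 32000 500 = true := by decide +kernel

theorem rels_okAt32500 : allFrom data.checkRels 32500 500 = true := by decide +kernel

theorem rels_okAt33000 : allFrom data.checkRels 33000 500 = true := by decide +kernel

theorem rels_okAt33500 : allFrom data.checkRels 33500 500 = true := by decide +kernel

theorem rels_okAt34000 : allFrom data.checkRels 34000 500 = true := by decide +kernel

theorem rels_okAt34500 : allFrom data.checkRels 34500 500 = true := by decide +kernel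

theorem rels_okAt35000 : allFrom data.checkRels 35000 500 = true := by decide +kernel

theorem rels_okAt35500 : allFrom data.checkRels 35500 500 = true := by decide +kernel

end Cfsg.Agent.CosetCert.ONIndex122760
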