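import Cfsg.Agent.CosetCert.ONIndex122760.Defs

/-! Generated: kernel checks. -/

set_option Elab.async false

namespace Cfsg.Agent.CosetCert.ONIndex122760

theorem rels_okAt36000 : allFrom data.checkRels 36000 500 = true := by decide +kernel

theorem rels_okAt36500 : allFrom data.checkRels 36500 500 = true := by decide +kernel

theorem rels_okAt37000 : allFrom data.checkRels 37000 500 = true := by decide +kernel

theorem rels_okAt37500 : allFrom data.checkRels 37500 500 = true := by decide +kernel

theorem rels_okAt38000 : allFrom data.checkRels 38000 500 = true := by decide +kernel

theorem rels_okAt38500 : allFrom data.checkRels 38500 500 = true := by decide +kernel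

theorem rels_okAt39000 : allFrom data.checkRels 39000 500 = true := by decide +kernel

theorem rels_okAt39500 : allFrom data.checkRels 39500 500 = true := by decide +kernel

theorem rels_okAt40000 : allFrom data.checkRels 40000 500 = true := by decide +kernel

theorem rels_okAt40500 : allFrom data.checkRels 40500 500 = true := by decide +kernel

theorem rels_okAt41000 : allFrom data.checkRels 41000 500 = true := by decide +kernel

theorem rels_okAt41500 : allFrom data.checkRels 41500 500 = true := by decide +kernel

theorem rels_okAt42000 : allFrom data.checkRels 42000 500 = true := by decide +kernel

theorem rels_okAt42500 : allFrom data.checkRels 42500 500 = true := by decide +kernel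

theorem rels_okAt43000 : allFrom data.checkRels 43000 500 = true := by decide +kernel

theorem rels_okAt43500 : allFrom data.checkRels 43500 500 = true := by decide +kernel

theorem rels_okAt44000 : allFrom data.checkRels 44000 500 = true := by decide +kernel

theorem rels_okAt44500 : allFrom data.checkRels 44500 500 = true := by decide +kernel

theorem rels_okAt45000 : allFrom data.checkRels 45000 500 = true := by decide +kernel

theorem rels_okAt45500 : allFrom data.checkRels 45500 500 = true := by decide +kernel

theorem rels_okAt46000 : allFrom data.checkRels 46000 500 = true := by decide +kernel

theorem rels_okAt46500 : allFrom data.checkRels 46500 500 = true := by decide +kernel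

theorem rels_okAt47000 : allFrom data.checkRels 47000 500 = true := by decide +kernel

theorem rels_okAt47500 : allFrom data.checkRels 47500 500 = true := by decide +kernel

end Cfsg.Agent.CosetCert.ONIndex122760
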