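import Cfsg.Agent.CosetCert.ONIndex122760.Defs

/-! Generated: kernel checks. -/

set_option Elab.async false

namespace Cfsg.Agent.CosetCert.ONIndex122760

theorem rels_okAt48000 : allFrom data.checkRels 48000 500 = true := by decide +kernel

theorem rels_okAt48500 : allFrom data.checkRels 48500 500 = true := by decide +kernel

theorem rels_okAt49000 : allFrom data.checkRels 49000 500 = true := by decide +kernel

theorem rels_okAt49500 : allFrom data.checkRels 49500 500 = true := by decide +kernel

theorem rels_okAt50000 : allFrom data.checkRels 50000 500 = true := by decide +kernel

theorem rels_okAt50500 : allFrom data.checkRels 50500 500 = true := by decide +kernel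

theorem rels_okAt51000 : allFrom data.checkRels 51000 500 = true := by decide +kernel

theorem rels_okAt51500 : allFrom data.checkRels 51500 500 = true := by decide +kernel

theorem rels_okAt52000 : allFrom data.checkRels 52000 500 = true := by decide +kernel

theorem rels_okAt52500 : allFrom data.checkRels 52500 500 = true := by decide +kernel

theorem rels_okAt53000 : allFrom data.checkRels 53000 500 = true := by decide +kernel

theorem rels_okAt53500 : allFrom data.checkRels 53500 500 = true := by decide +kernel

theorem rels_okAt54000 : allFrom data.checkRels 54000 500 = true := by decide +kernel

theorem rels_okAt54500 : allFrom data.checkRels 54500 500 = true := by decide +kernel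

theorem rels_okAt55000 : allFrom data.checkRels 55000 500 = true := by decide +kernel

theorem rels_okAt55500 : allFrom data.checkRels 55500 500 = true := by decide +kernel

theorem rels_okAt56000 : allFrom data.checkRels 56000 500 = true := by decide +kernel

theorem rels_okAt56500 : allFrom data.checkRels 56500 500 = true := by decide +kernel

theorem rels_okAt57000 : allFrom data.checkRels 57000 500 = true := by decide +kernel

theorem rels_okAt57500 : allFrom data.checkRels 57500 500 = true := by decide +kernel

theorem rels_okAt58000 : allFrom data.checkRels 58000 500 = true := by decide +kernel

theorem rels_okAt58500 : allFrom data.checkRels 58500 500 = true := by decide +kernel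

theorem rels_okAt59000 : allFrom data.checkRels 59000 500 = true := by decide +kernel

theorem rels_okAt59500 : allFrom data.checkRels 59500 500 = true := by decide +kernel

end Cfsg.Agent.CosetCert.ONIndex122760
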