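import Cfsg.Agent.CosetCert.ONIndex122760.Defs

/-! Generated: kernel checks. -/

set_option Elab.async false

namespace Cfsg.Agent.CosetCert.ONIndex122760

theorem rels_okAt60000 : allFrom data.checkRels 60000 500 = true := by decide +kernel

theorem rels_okAt60500 : allFrom data.checkRels 60500 500 = true := by decide +kernel

theorem rels_okAt61000 : allFrom data.checkRels 61000 500 = true := by decide +kernel

theorem rels_okAt61500 : allFrom data.checkRels 61500 500 = true := by decide +kernel

theorem rels_okAt62000 : allFrom data.checkRels 62000 500 = true := by decide +kernel

theorem rels_okAt62500 : allFrom data.checkRels 62500 500 = true := by decide +kernel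

theorem rels_okAt63000 : allFrom data.checkRels 63000 500 = true := by decide +kernel

theorem rels_okAt63500 : allFrom data.checkRels 63500 500 = true := by decide +kernel

theorem rels_okAt64000 : allFrom data.checkRels 64000 500 = true := by decide +kernel

theorem rels_okAt64500 : allFrom data.checkRels 64500 500 = true := by decide +kernel

theorem rels_okAt65000 : allFrom data.checkRels 65000 500 = true := by decide +kernel

theorem rels_okAt65500 : allFrom data.checkRels 65500 500 = true := by decide +kernel

theorem rels_okAt66000 : allFrom data.checkRels 66000 500 = true := by decide +kernel

theorem rels_okAt66500 : allFrom data.checkRels 66500 500 = true := by decide +kernel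

theorem rels_okAt67000 : allFrom data.checkRels 67000 500 = true := by decide +kernel

theorem rels_okAt67500 : allFrom data.checkRels 67500 500 = true := by decide +kernel

theorem rels_okAt68000 : allFrom data.checkRels 68000 500 = true := by decide +kernel

theorem rels_okAt68500 : allFrom data.checkRels 68500 500 = true := by decide +kernel

theorem rels_okAt69000 : allFrom data.checkRels 69000 500 = true := by decide +kernel

theorem rels_okAt69500 : allFrom data.checkRels 69500 500 = true := by decide +kernel

theorem rels_okAt70000 : allFrom data.checkRels 70000 500 = true := by decide +kernel

theorem rels_okAt70500 : allFrom data.checkRels 70500 500 = true := by decide +kernel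

theorem rels_okAt71000 : allFrom data.checkRels 71000 500 = true := by decide +kernel

theorem rels_okAt71500 : allFrom data.checkRels 71500 500 = true := by decide +kernel

end Cfsg.Agent.CosetCert.ONIndex122760
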