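import Cfsg.Agent.CosetCert.ONIndex122760.Defs

/-! Generated: kernel checks. -/

set_option Elab.async false

namespace Cfsg.Agent.CosetCert.ONIndex122760

theorem rels_okAt72000 : allFrom data.checkRels 72000 500 = true := by decide +kernel

theorem rels_okAt72500 : allFrom data.checkRels 72500 500 = true := by decide +kernel

theorem rels_okAt73000 : allFrom data.checkRels 73000 500 = true := by decide +kernel

theorem rels_okAt73500 : allFrom data.checkRels 73500 500 = true := by decide +kernel

theorem rels_okAt74000 : allFrom data.checkRels 74000 500 = true := by decide +kernel

theorem rels_okAt74500 : allFrom data.checkRels 74500 500 = true := by decide +kernel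

theorem rels_okAt75000 : allFrom data.checkRels 75000 500 = true := by decide +kernel

theorem rels_okAt75500 : allFrom data.checkRels 75500 500 = true := by decide +kernel

theorem rels_okAt76000 : allFrom data.checkRels 76000 500 = true := by decide +kernel

theorem rels_okAt76500 : allFrom data.checkRels 76500 500 = true := by decide +kernel

theorem rels_okAt77000 : allFrom data.checkRels 77000 500 = true := by decide +kernel

theorem rels_okAt77500 : allFrom data.checkRels 77500 500 = true := by decide +kernel

theorem rels_okAt78000 : allFrom data.checkRels 78000 500 = true := by decide +kernel

theorem rels_okAt78500 : allFrom data.checkRels 78500 500 = true := by decide +kernel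

theorem rels_okAt79000 : allFrom data.checkRels 79000 500 = true := by decide +kernel

theorem rels_okAt79500 : allFrom data.checkRels 79500 500 = true := by decide +kernel

theorem rels_okAt80000 : allFrom data.checkRels 80000 500 = true := by decide +kernel

theorem rels_okAt80500 : allFrom data.checkRels 80500 500 = true := by decide +kernel

theorem rels_okAt81000 : allFrom data.checkRels 81000 500 = true := by decide +kernel

theorem rels_okAt81500 : allFrom data.checkRels 81500 500 = true := by decide +kernel

theorem rels_okAt82000 : allFrom data.checkRels 82000 500 = true := by decide +kernel

theorem rels_okAt82500 : allFrom data.checkRels 82500 500 = true := by decide +kernel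

theorem rels_okAt83000 : allFrom data.checkRels 83000 500 = true := by decide +kernel

theorem rels_okAt83500 : allFrom data.checkRels 83500 500 = true := by decide +kernel

end Cfsg.Agent.CosetCert.ONIndex122760
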