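import Cfsg.Agent.CosetCert.ONIndex122760.Defs

/-! Generated: kernel checks. -/

set_option Elab.async false

namespace Cfsg.Agent.CosetCert.ONIndex122760

theorem rels_okAt84000 : allFrom data.checkRels 84000 500 = true := by decide +kernel

theorem rels_okAt84500 : allFrom data.checkRels 84500 500 = true := by decide +kernel

theorem rels_okAt85000 : allFrom data.checkRels 85000 500 = true := by decide +kernel

theorem rels_okAt85500 : allFrom data.checkRels 85500 500 = true := by decide +kernel

theorem rels_okAt86000 : allFrom data.checkRels 86000 500 = true := by decide +kernel

theorem rels_okAt86500 : allFrom data.checkRels 86500 500 = true := by decide +kernel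

theorem rels_okAt87000 : allFrom data.checkRels 87000 500 = true := by decide +kernel

theorem rels_okAt87500 : allFrom data.checkRels 87500 500 = true := by decide +kernel

theorem rels_okAt88000 : allFrom data.checkRels 88000 500 = true := by decide +kernel

theorem rels_okAt88500 : allFrom data.checkRels 88500 500 = true := by decide +kernel

theorem rels_okAt89000 : allFrom data.checkRels 89000 500 = true := by decide +kernel

theorem rels_okAt89500 : allFrom data.checkRels 89500 500 = true := by decide +kernel

theorem rels_okAt90000 : allFrom data.checkRels 90000 500 = true := by decide +kernel

theorem rels_okAt90500 : allFrom data.checkRels 90500 500 = true := by decide +kernel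

theorem rels_okAt91000 : allFrom data.checkRels 91000 500 = true := by decide +kernel

theorem rels_okAt91500 : allFrom data.checkRels 91500 500 = true := by decide +kernel

theorem rels_okAt92000 : allFrom data.checkRels 92000 500 = true := by decide +kernel

theorem rels_okAt92500 : allFrom data.checkRels 92500 500 = true := by decide +kernel

theorem rels_okAt93000 : allFrom data.checkRels 93000 500 = true := by decide +kernel

theorem rels_okAt93500 : allFrom data.checkRels 93500 500 = true := by decide +kernel

theorem rels_okAt94000 : allFrom data.checkRels 94000 500 = true := by decide +kernel

theorem rels_okAt94500 : allFrom data.checkRels 94500 500 = true := by decide +kernel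

theorem rels_okAt95000 : allFrom data.checkRels 95000 500 = true := by decide +kernel

theorem rels_okAt95500 : allFrom data.checkRels 95500 500 = true := by decide +kernel

end Cfsg.Agent.CosetCert.ONIndex122760
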