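import Cfsg.Agent.CosetCert.ONIndex122760.Defs

/-! Generated: kernel checks. -/

set_option Elab.async false

namespace Cfsg.Agent.CosetCert.ONIndex122760

theorem rels_okAt96000 : allFrom data.checkRels 96000 500 = true := by decide +kernel

theorem rels_okAt96500 : allFrom data.checkRels 96500 500 = true := by decide +kernel

theorem rels_okAt97000 : allFrom data.checkRels 97000 500 = true := by decide +kernel

theorem rels_okAt97500 : allFrom data.checkRels 97500 500 = true := by decide +kernel

theorem rels_okAt98000 : allFrom data.checkRels 98000 500 = true := by decide +kernel

theorem rels_okAt98500 : allFrom data.checkRels 98500 500 = true := by decide +kernel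

theorem rels_okAt99000 : allFrom data.checkRels 99000 500 = true := by decide +kernel

theorem rels_okAt99500 : allFrom data.checkRels 99500 500 = true := by decide +kernel

theorem rels_okAt100000 : allFrom data.checkRels 100000 500 = true := by decide +kernel

theorem rels_okAt100500 : allFrom data.checkRels 100500 500 = true := by decide +kernel

theorem rels_okAt101000 : allFrom data.checkRels 101000 500 = true := by decide +kernel

theorem rels_okAt101500 : allFrom data.checkRels 101500 500 = true := by decide +kernel

theorem rels_okAt102000 : allFrom data.checkRels 102000 500 = true := by decide +kernel

theorem rels_okAt102500 : allFrom data.checkRels 102500 500 = true := by decide +kernel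

theorem rels_okAt103000 : allFrom data.checkRels 103000 500 = true := by decide +kernel

theorem rels_okAt103500 : allFrom data.checkRels 103500 500 = true := by decide +kernel

theorem rels_okAt104000 : allFrom data.checkRels 104000 500 = true := by decide +kernel

theorem rels_okAt104500 : allFrom data.checkRels 104500 500 = true := by decide +kernel

theorem rels_okAt105000 : allFrom data.checkRels 105000 500 = true := by decide +kernel

theorem rels_okAt105500 : allFrom data.checkRels 105500 500 = true := by decide +kernel

theorem rels_okAt106000 : allFrom data.checkRels 106000 500 = true := by decide +kernel

theorem rels_okAt106500 : allFrom data.checkRels 106500 500 = true := by decide +kernel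

theorem rels_okAt107000 : allFrom data.checkRels 107000 500 = true := by decide +kernel

theorem rels_okAt107500 : allFrom data.checkRels 107500 500 = true := by decide +kernel

end Cfsg.Agent.CosetCert.ONIndex122760
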