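import Cfsg.Agent.CosetCert.ONIndex122760.Defs

/-! Generated: kernel checks. -/

set_option Elab.async false

namespace Cfsg.Agent.CosetCert.ONIndex122760

theorem rels_okAt108000 : allFrom data.checkRels 108000 500 = true := by decide +kernel

theorem rels_okAt108500 : allFrom data.checkRels 108500 500 = true := by decide +kernel

theorem rels_okAt109000 : allFrom data.checkRels 109000 500 = true := by decide +kernel

theorem rels_okAt109500 : allFrom data.checkRels 109500 500 = true := by decide +kernel

theorem rels_okAt110000 : allFrom data.checkRels 110000 500 = true := by decide +kernel

theorem rels_okAt110500 : allFrom data.checkRels 110500 500 = true := by decide +kernel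

theorem rels_okAt111000 : allFrom data.checkRels 111000 500 = true := by decide +kernel

theorem rels_okAt111500 : allFrom data.checkRels 111500 500 = true := by decide +kernel

theorem rels_okAt112000 : allFrom data.checkRels 112000 500 = true := by decide +kernel

theorem rels_okAt112500 : allFrom data.checkRels 112500 500 = true := by decide +kernel

theorem rels_okAt113000 : allFrom data.checkRels 113000 500 = true := by decide +kernel

theorem rels_okAt113500 : allFrom data.checkRels 113500 500 = true := by decide +kernel

theorem rels_okAt114000 : allFrom data.checkRels 114000 500 = true := by decide +kernel

theorem rels_okAt114500 : allFrom data.checkRels 114500 500 = true := by decide +kernel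

theorem rels_okAt115000 : allFrom data.checkRels 115000 500 = true := by decide +kernel

theorem rels_okAt115500 : allFrom data.checkRels 115500 500 = true := by decide +kernel

theorem rels_okAt116000 : allFrom data.checkRels 116000 500 = true := by decide +kernel

theorem rels_okAt116500 : allFrom data.checkRels 116500 500 = true := by decide +kernel

theorem rels_okAt117000 : allFrom data.checkRels 117000 500 = true := by decide +kernel

theorem rels_okAt117500 : allFrom data.checkRels 117500 500 = true := by decide +kernel

theorem rels_okAt118000 : allFrom data.checkRels 118000 500 = true := by decide +kernel

theorem rels_okAt118500 : allFrom data.checkRels 118500 500 = true := by decide +kernel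

theorem rels_okAt119000 : allFrom data.checkRels 119000 500 = true := by decide +kernel

theorem rels_okAt119500 : allFrom data.checkRels 119500 500 = true := by decide +kernel

end Cfsg.Agent.CosetCert.ONIndex122760
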