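import Cfsg.Agent.CosetCert.ONIndex122760.CheckRels0
import Cfsg.Agent.CosetCert.ONIndex122760.CheckRels1
import Cfsg.Agent.CosetCert.ONIndex122760.CheckRels2
import Cfsg.Agent.CosetCert.ONIndex122760.CheckRels3
import Cfsg.Agent.CosetCert.ONIndex122760.CheckRels4
import Cfsg.Agent.CosetCert.ONIndex122760.CheckRels5
import Cfsg.Agent.CosetCert.ONIndex122760.CheckRels6
import Cfsg.Agent.CosetCert.ONIndex122760.CheckRels7
import Cfsg.Agent.CosetCert.ONIndex122760.CheckRels8
import Cfsg.Agent.CosetCert.ONIndex122760.CheckRels9
import Cfsg.Agent.CosetCert.ONIndex122760.CheckRels10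

/-! Generated: kernel checks combined. -/

set_option maxRecDepth 100000

namespace Cfsg.Agent.CosetCert.ONIndex122760

theorem rels_ok : ∀ i, i < 122760 → data.checkRels i = true := by
  have h0 : ∀ i, i < 0 → data.checkRels i = true := forall_lt_zero
  have h1 := forall_lt_step (b := 500) h0 rels_okAt0 rfl
  have h2 := forall_lt_step (b := 1000) h1 rels_okAt500 rfl
  have h3 := forall_lt_step (b := 1500) h2 rels_okAt1000 rfl
  have h4 := forall_lt_step (b := 2000) h3 rels_okAt1500 rfl
  have h5 := forall_lt_step (b := 2500) h4 rels_okAt2000 rfl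
  have h6 := forall_lt_step (b := 3000) h5 rels_okAt2500 rfl
  have h7 := forall_lt_step (b := 3500) h6 rels_okAt3000 rfl
  have h8 := forall_lt_step (b := 4000) h7 rels_okAt3500 rfl
  have h9 := forall_lt_step (b := 4500) h8 rels_okAt4000 rfl
  have h10 := forall_lt_step (b := 5000) h9 rels_okAt4500 rfl
  have h11 := forall_lt_step (b := 5500) h10 rels_okAt5000 rfl
  have h12 := forall_lt_step (b := 6000) h11 rels_okAt5500 rfl
  have h13 := forall_lt_step (b := 6500) h12 rels_okAt6000 rfl
  have h14 := forall_lt_step (b := 7000) h13 rels_okAt6500 rfl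
  have h15 := forall_lt_step (b := 7500) h14 rels_okAt7000 rfl
  have h16 := forall_lt_step (b := 8000) h15 rels_okAt7500 rfl
  have h17 := forall_lt_step (b := 8500) h16 rels_okAt8000 rfl
  have h18 := forall_lt_step (b := 9000) h17 rels_okAt8500 rfl
  have h19 := forall_lt_step (b := 9500) h18 rels_okAt9000 rfl
  have h20 := forall_lt_step (b := 10000) h19 rels_okAt9500 rfl
  have h21 := forall_lt_step (b := 10500) h20 rels_okAt10000 rfl
  have h22 := forall_lt_step (b := 11000) h21 rels_okAt10500 rfl
  have h23 := forall_lt_step (b := 11500) h22 rels_okAt11000 rfl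
  have h24 := forall_lt_step (b := 12000) h23 rels_okAt11500 rfl
  have h25 := forall_lt_step (b := 12500) h24 rels_okAt12000 rfl
  have h26 := forall_lt_step (b := 13000) h25 rels_okAt12500 rfl
  have h27 := forall_lt_step (b := 13500) h26 rels_okAt13000 rfl
  have h28 := forall_lt_step (b := 14000) h27 rels_okAt13500 rfl
  have h29 := forall_lt_step (b := 14500) h28 rels_okAt14000 rfl
  have h30 := forall_lt_step (b := 15000) h29 rels_okAt14500 rfl
  have h31 := forall_lt_step (b := 15500) h30 rels_okAt15000 rfl
  have h32 := forall_lt_step (b := 16000) h31 rels_okAt15500 rfl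
  have h33 := forall_lt_step (b := 16500) h32 rels_okAt16000 rfl
  have h34 := forall_lt_step (b := 17000) h33 rels_okAt16500 rfl
  have h35 := forall_lt_step (b := 17500) h34 rels_okAt17000 rfl
  have h36 := forall_lt_step (b := 18000) h35 rels_okAt17500 rfl
  have h37 := forall_lt_step (b := 18500) h36 rels_okAt18000 rfl
  have h38 := forall_lt_step (b := 19000) h37 rels_okAt18500 rfl
  have h39 := forall_lt_step (b := 19500) h38 rels_okAt19000 rfl
  have h40 := forall_lt_step (b := 20000) h39 rels_okAt19500 rfl
  have h41 := forall_lt_step (b := 20500) h40 rels_okAt20000 rfl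
  have h42 := forall_lt_step (b := 21000) h41 rels_okAt20500 rfl
  have h43 := forall_lt_step (b := 21500) h42 rels_okAt21000 rfl
  have h44 := forall_lt_step (b := 22000) h43 rels_okAt21500 rfl
  have h45 := forall_lt_step (b := 22500) h44 rels_okAt22000 rfl
  have h46 := forall_lt_step (b := 23000) h45 rels_okAt22500 rfl
  have h47 := forall_lt_step (b := 23500) h46 rels_okAt23000 rfl
  have h48 := forall_lt_step (b := 24000) h47 rels_okAt23500 rfl
  have h49 := forall_lt_step (b := 24500) h48 rels_okAt24000 rfl
  have h50 := forall_lt_step (b := 25000) h49 rels_okAt24500 rfl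
  have h51 := forall_lt_step (b := 25500) h50 rels_okAt25000 rfl
  have h52 := forall_lt_step (b := 26000) h51 rels_okAt25500 rfl
  have h53 := forall_lt_step (b := 26500) h52 rels_okAt26000 rfl
  have h54 := forall_lt_step (b := 27000) h53 rels_okAt26500 rfl
  have h55 := forall_lt_step (b := 27500) h54 rels_okAt27000 rfl
  have h56 := forall_lt_step (b := 28000) h55 rels_okAt27500 rfl
  have h57 := forall_lt_step (b := 28500) h56 rels_okAt28000 rfl
  have h58 := forall_lt_step (b := 29000) h57 rels_okAt28500 rfl
  have h59 := forall_lt_step (b := 29500) h58 rels_okAt29000 rfl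
  have h60 := forall_lt_step (b := 30000) h59 rels_okAt29500 rfl
  have h61 := forall_lt_step (b := 30500) h60 rels_okAt30000 rfl
  have h62 := forall_lt_step (b := 31000) h61 rels_okAt30500 rfl
  have h63 := forall_lt_step (b := 31500) h62 rels_okAt31000 rfl
  have h64 := forall_lt_step (b := 32000) h63 rels_okAt31500 rfl
  have h65 := forall_lt_step (b := 32500) h64 rels_okAt32000 rfl
  have h66 := forall_lt_step (b := 33000) h65 rels_okAt32500 rfl
  have h67 := forall_lt_step (b := 33500) h66 rels_okAt33000 rfl
  have h68 := forall_lt_step (b := 34000) h67 rels_okAt33500 rfl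
  have h69 := forall_lt_step (b := 34500) h68 rels_okAt34000 rfl
  have h70 := forall_lt_step (b := 35000) h69 rels_okAt34500 rfl
  have h71 := forall_lt_step (b := 35500) h70 rels_okAt35000 rfl
  have h72 := forall_lt_step (b := 36000) h71 rels_okAt35500 rfl
  have h73 := forall_lt_step (b := 36500) h72 rels_okAt36000 rfl
  have h74 := forall_lt_step (b := 37000) h73 rels_okAt36500 rfl
  have h75 := forall_lt_step (b := 37500) h74 rels_okAt37000 rfl
  have h76 := forall_lt_step (b := 38000) h75 rels_okAt37500 rfl
  have h77 := forall_lt_step (b := 38500) h76 rels_okAt38000 rfl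
  have h78 := forall_lt_step (b := 39000) h77 rels_okAt38500 rfl
  have h79 := forall_lt_step (b := 39500) h78 rels_okAt39000 rfl
  have h80 := forall_lt_step (b := 40000) h79 rels_okAt39500 rfl
  have h81 := forall_lt_step (b := 40500) h80 rels_okAt40000 rfl
  have h82 := forall_lt_step (b := 41000) h81 rels_okAt40500 rfl
  have h83 := forall_lt_step (b := 41500) h82 rels_okAt41000 rfl
  have h84 := forall_lt_step (b := 42000) h83 rels_okAt41500 rfl
  have h85 := forall_lt_step (b := 42500) h84 rels_okAt42000 rfl
  have h86 := forall_lt_step (b := 43000) h85 rels_okAt42500 rfl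
  have h87 := forall_lt_step (b := 43500) h86 rels_okAt43000 rfl
  have h88 := forall_lt_step (b := 44000) h87 rels_okAt43500 rfl
  have h89 := forall_lt_step (b := 44500) h88 rels_okAt44000 rfl
  have h90 := forall_lt_step (b := 45000) h89 rels_okAt44500 rfl
  have h91 := forall_lt_step (b := 45500) h90 rels_okAt45000 rfl
  have h92 := forall_lt_step (b := 46000) h91 rels_okAt45500 rfl
  have h93 := forall_lt_step (b := 46500) h92 rels_okAt46000 rfl
  have h94 := forall_lt_step (b := 47000) h93 rels_okAt46500 rfl
  have h95 := forall_lt_step (b := 47500) h94 rels_okAt47000 rfl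
  have h96 := forall_lt_step (b := 48000) h95 rels_okAt47500 rfl
  have h97 := forall_lt_step (b := 48500) h96 rels_okAt48000 rfl
  have h98 := forall_lt_step (b := 49000) h97 rels_okAt48500 rfl
  have h99 := forall_lt_step (b := 49500) h98 rels_okAt49000 rfl
  have h100 := forall_lt_step (b := 50000) h99 rels_okAt49500 rfl
  have h101 := forall_lt_step (b := 50500) h100 rels_okAt50000 rfl
  have h102 := forall_lt_step (b := 51000) h101 rels_okAt50500 rfl
  have h103 := forall_lt_step (b := 51500) h102 rels_okAt51000 rfl
  have h104 := forall_lt_step (b := 52000) h103 rels_okAt51500 rfl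
  have h105 := forall_lt_step (b := 52500) h104 rels_okAt52000 rfl
  have h106 := forall_lt_step (b := 53000) h105 rels_okAt52500 rfl
  have h107 := forall_lt_step (b := 53500) h106 rels_okAt53000 rfl
  have h108 := forall_lt_step (b := 54000) h107 rels_okAt53500 rfl
  have h109 := forall_lt_step (b := 54500) h108 rels_okAt54000 rfl
  have h110 := forall_lt_step (b := 55000) h109 rels_okAt54500 rfl
  have h111 := forall_lt_step (b := 55500) h110 rels_okAt55000 rfl
  have h112 := forall_lt_step (b := 56000) h111 rels_okAt55500 rfl
  have h113 := forall_lt_step (b := 56500) h112 rels_okAt56000 rfl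
  have h114 := forall_lt_step (b := 57000) h113 rels_okAt56500 rfl
  have h115 := forall_lt_step (b := 57500) h114 rels_okAt57000 rfl
  have h116 := forall_lt_step (b := 58000) h115 rels_okAt57500 rfl
  have h117 := forall_lt_step (b := 58500) h116 rels_okAt58000 rfl
  have h118 := forall_lt_step (b := 59000) h117 rels_okAt58500 rfl
  have h119 := forall_lt_step (b := 59500) h118 rels_okAt59000 rfl
  have h120 := forall_lt_step (b := 60000) h119 rels_okAt59500 rfl
  have h121 := forall_lt_step (b := 60500) h120 rels_okAt60000 rfl
  have h122 := forall_lt_step (b := 61000) h121 rels_okAt60500 rfl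
  have h123 := forall_lt_step (b := 61500) h122 rels_okAt61000 rfl
  have h124 := forall_lt_step (b := 62000) h123 rels_okAt61500 rfl
  have h125 := forall_lt_step (b := 62500) h124 rels_okAt62000 rfl
  have h126 := forall_lt_step (b := 63000) h125 rels_okAt62500 rfl
  have h127 := forall_lt_step (b := 63500) h126 rels_okAt63000 rfl
  have h128 := forall_lt_step (b := 64000) h127 rels_okAt63500 rfl
  have h129 := forall_lt_step (b := 64500) h128 rels_okAt64000 rfl
  have h130 := forall_lt_step (b := 65000) h129 rels_okAt64500 rfl
  have h131 := forall_lt_step (b := 65500) h130 rels_okAt65000 rfl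
  have h132 := forall_lt_step (b := 66000) h131 rels_okAt65500 rfl
  have h133 := forall_lt_step (b := 66500) h132 rels_okAt66000 rfl
  have h134 := forall_lt_step (b := 67000) h133 rels_okAt66500 rfl
  have h135 := forall_lt_step (b := 67500) h134 rels_okAt67000 rfl
  have h136 := forall_lt_step (b := 68000) h135 rels_okAt67500 rfl
  have h137 := forall_lt_step (b := 68500) h136 rels_okAt68000 rfl
  have h138 := forall_lt_step (b := 69000) h137 rels_okAt68500 rfl
  have h139 := forall_lt_step (b := 69500) h138 rels_okAt69000 rfl
  have h140 := forall_lt_step (b := 70000) h139 rels_okAt69500 rfl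
  have h141 := forall_lt_step (b := 70500) h140 rels_okAt70000 rfl
  have h142 := forall_lt_step (b := 71000) h141 rels_okAt70500 rfl
  have h143 := forall_lt_step (b := 71500) h142 rels_okAt71000 rfl
  have h144 := forall_lt_step (b := 72000) h143 rels_okAt71500 rfl
  have h145 := forall_lt_step (b := 72500) h144 rels_okAt72000 rfl
  have h146 := forall_lt_step (b := 73000) h145 rels_okAt72500 rfl
  have h147 := forall_lt_step (b := 73500) h146 rels_okAt73000 rfl
  have h148 := forall_lt_step (b := 74000) h147 rels_okAt73500 rfl
  have h149 := forall_lt_step (b := 74500) h148 rels_okAt74000 rfl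
  have h150 := forall_lt_step (b := 75000) h149 rels_okAt74500 rfl
  have h151 := forall_lt_step (b := 75500) h150 rels_okAt75000 rfl
  have h152 := forall_lt_step (b := 76000) h151 rels_okAt75500 rfl
  have h153 := forall_lt_step (b := 76500) h152 rels_okAt76000 rfl
  have h154 := forall_lt_step (b := 77000) h153 rels_okAt76500 rfl
  have h155 := forall_lt_step (b := 77500) h154 rels_okAt77000 rfl
  have h156 := forall_lt_step (b := 78000) h155 rels_okAt77500 rfl
  have h157 := forall_lt_step (b := 78500) h156 rels_okAt78000 rfl
  have h158 := forall_lt_step (b := 79000) h157 rels_okAt78500 rfl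
  have h159 := forall_lt_step (b := 79500) h158 rels_okAt79000 rfl
  have h160 := forall_lt_step (b := 80000) h159 rels_okAt79500 rfl
  have h161 := forall_lt_step (b := 80500) h160 rels_okAt80000 rfl
  have h162 := forall_lt_step (b := 81000) h161 rels_okAt80500 rfl
  have h163 := forall_lt_step (b := 81500) h162 rels_okAt81000 rfl
  have h164 := forall_lt_step (b := 82000) h163 rels_okAt81500 rfl
  have h165 := forall_lt_step (b := 82500) h164 rels_okAt82000 rfl
  have h166 := forall_lt_step (b := 83000) h165 rels_okAt82500 rfl
  have h167 := forall_lt_step (b := 83500) h166 rels_okAt83000 rfl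
  have h168 := forall_lt_step (b := 84000) h167 rels_okAt83500 rfl
  have h169 := forall_lt_step (b := 84500) h168 rels_okAt84000 rfl
  have h170 := forall_lt_step (b := 85000) h169 rels_okAt84500 rfl
  have h171 := forall_lt_step (b := 85500) h170 rels_okAt85000 rfl
  have h172 := forall_lt_step (b := 86000) h171 rels_okAt85500 rfl
  have h173 := forall_lt_step (b := 86500) h172 rels_okAt86000 rfl
  have h174 := forall_lt_step (b := 87000) h173 rels_okAt86500 rfl
  have h175 := forall_lt_step (b := 87500) h174 rels_okAt87000 rfl
  have h176 := forall_lt_step (b := 88000) h175 rels_okAt87500 rfl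
  have h177 := forall_lt_step (b := 88500) h176 rels_okAt88000 rfl
  have h178 := forall_lt_step (b := 89000) h177 rels_okAt88500 rfl
  have h179 := forall_lt_step (b := 89500) h178 rels_okAt89000 rfl
  have h180 := forall_lt_step (b := 90000) h179 rels_okAt89500 rfl
  have h181 := forall_lt_step (b := 90500) h180 rels_okAt90000 rfl
  have h182 := forall_lt_step (b := 91000) h181 rels_okAt90500 rfl
  have h183 := forall_lt_step (b := 91500) h182 rels_okAt91000 rfl
  have h184 := forall_lt_step (b := 92000) h183 rels_okAt91500 rfl
  have h185 := forall_lt_step (b := 92500) h184 rels_okAt92000 rfl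
  have h186 := forall_lt_step (b := 93000) h185 rels_okAt92500 rfl
  have h187 := forall_lt_step (b := 93500) h186 rels_okAt93000 rfl
  have h188 := forall_lt_step (b := 94000) h187 rels_okAt93500 rfl
  have h189 := forall_lt_step (b := 94500) h188 rels_okAt94000 rfl
  have h190 := forall_lt_step (b := 95000) h189 rels_okAt94500 rfl
  have h191 := forall_lt_step (b := 95500) h190 rels_okAt95000 rfl
  have h192 := forall_lt_step (b := 96000) h191 rels_okAt95500 rfl
  have h193 := forall_lt_step (b := 96500) h192 rels_okAt96000 rfl
  have h194 := forall_lt_step (b := 97000) h193 rels_okAt96500 rfl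
  have h195 := forall_lt_step (b := 97500) h194 rels_okAt97000 rfl
  have h196 := forall_lt_step (b := 98000) h195 rels_okAt97500 rfl
  have h197 := forall_lt_step (b := 98500) h196 rels_okAt98000 rfl
  have h198 := forall_lt_step (b := 99000) h197 rels_okAt98500 rfl
  have h199 := forall_lt_step (b := 99500) h198 rels_okAt99000 rfl
  have h200 := forall_lt_step (b := 100000) h199 rels_okAt99500 rfl
  have h201 := forall_lt_step (b := 100500) h200 rels_okAt100000 rfl
  have h202 := forall_lt_step (b := 101000) h201 rels_okAt100500 rfl
  have h203 := forall_lt_step (b := 101500) h202 rels_okAt101000 rfl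
  have h204 := forall_lt_step (b := 102000) h203 rels_okAt101500 rfl
  have h205 := forall_lt_step (b := 102500) h204 rels_okAt102000 rfl
  have h206 := forall_lt_step (b := 103000) h205 rels_okAt102500 rfl
  have h207 := forall_lt_step (b := 103500) h206 rels_okAt103000 rfl
  have h208 := forall_lt_step (b := 104000) h207 rels_okAt103500 rfl
  have h209 := forall_lt_step (b := 104500) h208 rels_okAt104000 rfl
  have h210 := forall_lt_step (b := 105000) h209 rels_okAt104500 rfl
  have h211 := forall_lt_step (b := 105500) h210 rels_okAt105000 rfl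
  have h212 := forall_lt_step (b := 106000) h211 rels_okAt105500 rfl
  have h213 := forall_lt_step (b := 106500) h212 rels_okAt106000 rfl
  have h214 := forall_lt_step (b := 107000) h213 rels_okAt106500 rfl
  have h215 := forall_lt_step (b := 107500) h214 rels_okAt107000 rfl
  have h216 := forall_lt_step (b := 108000) h215 rels_okAt107500 rfl
  have h217 := forall_lt_step (b := 108500) h216 rels_okAt108000 rfl
  have h218 := forall_lt_step (b := 109000) h217 rels_okAt108500 rfl
  have h219 := forall_lt_step (b := 109500) h218 rels_okAt109000 rfl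
  have h220 := forall_lt_step (b := 110000) h219 rels_okAt109500 rfl
  have h221 := forall_lt_step (b := 110500) h220 rels_okAt110000 rfl
  have h222 := forall_lt_step (b := 111000) h221 rels_okAt110500 rfl
  have h223 := forall_lt_step (b := 111500) h222 rels_okAt111000 rfl
  have h224 := forall_lt_step (b := 112000) h223 rels_okAt111500 rfl
  have h225 := forall_lt_step (b := 112500) h224 rels_okAt112000 rfl
  have h226 := forall_lt_step (b := 113000) h225 rels_okAt112500 rfl
  have h227 := forall_lt_step (b := 113500) h226 rels_okAt113000 rfl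
  have h228 := forall_lt_step (b := 114000) h227 rels_okAt113500 rfl
  have h229 := forall_lt_step (b := 114500) h228 rels_okAt114000 rfl
  have h230 := forall_lt_step (b := 115000) h229 rels_okAt114500 rfl
  have h231 := forall_lt_step (b := 115500) h230 rels_okAt115000 rfl
  have h232 := forall_lt_step (b := 116000) h231 rels_okAt115500 rfl
  have h233 := forall_lt_step (b := 116500) h232 rels_okAt116000 rfl
  have h234 := forall_lt_step (b := 117000) h233 rels_okAt116500 rfl
  have h235 := forall_lt_step (b := 117500) h234 rels_okAt117000 rfl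
  have h236 := forall_lt_step (b := 118000) h235 rels_okAt117500 rfl
  have h237 := forall_lt_step (b := 118500) h236 rels_okAt118000 rfl
  have h238 := forall_lt_step (b := 119000) h237 rels_okAt118500 rfl
  have h239 := forall_lt_step (b := 119500) h238 rels_okAt119000 rfl
  have h240 := forall_lt_step (b := 120000) h239 rels_okAt119500 rfl
  have h241 := forall_lt_step (b := 120500) h240 rels_okAt120000 rfl
  have h242 := forall_lt_step (b := 121000) h241 rels_okAt120500 rfl
  have h243 := forall_lt_step (b := 121500) h242 rels_okAt121000 rfl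
  have h244 := forall_lt_step (b := 122000) h243 rels_okAt121500 rfl
  have h245 := forall_lt_step (b := 122500) h244 rels_okAt122000 rfl
  have h246 := forall_lt_step (b := 122760) h245 rels_okAt122500 rfl
  exact h246

end Cfsg.Agent.CosetCert.ONIndex122760
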