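import Cfsg.Agent.CosetCert.ONIndex122760.Defs

/-! Generated: kernel checks. -/

set_option Elab.async false

namespace Cfsg.Agent.CosetCert.ONIndex122760

theorem coset_okAt40000 : allFrom data.checkCoset 40000 1000 = true := by decide +kernel

theorem coset_okAt41000 : allFrom data.checkCoset 41000 1000 = true := by decide +kernel

theorem coset_okAt42000 : allFrom data.checkCoset 42000 1000 = true := by decide +kernel

theorem coset_okAt43000 : allFrom data.checkCoset 43000 1000 = true := by decide +kernel

theorem coset_okAt44000 : allFrom data.checkCoset 44000 1000 = true := by decide +kernel

theorem coset_okAt45000 : allFrom data.checkCoset 45000 1000 = true := by decide +kernel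

theorem coset_okAt46000 : allFrom data.checkCoset 46000 1000 = true := by decide +kernel

theorem coset_okAt47000 : allFrom data.checkCoset 47000 1000 = true := by decide +kernel

theorem coset_okAt48000 : allFrom data.checkCoset 48000 1000 = true := by decide +kernel

theorem coset_okAt49000 : allFrom data.checkCoset 49000 1000 = true := by decide +kernel

theorem coset_okAt50000 : allFrom data.checkCoset 50000 1000 = true := by decide +kernel

theorem coset_okAt51000 : allFrom data.checkCoset 51000 1000 = true := by decide +kernel

theorem coset_okAt52000 : allFrom data.checkCoset 52000 1000 = true := by decide +kernel

theorem coset_okAt53000 : allFrom data.checkCoset 53000 1000 = true := by decide +kernel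

theorem coset_okAt54000 : allFrom data.checkCoset 54000 1000 = true := by decide +kernel

theorem coset_okAt55000 : allFrom data.checkCoset 55000 1000 = true := by decide +kernel

theorem coset_okAt56000 : allFrom data.checkCoset 56000 1000 = true := by decide +kernel

theorem coset_okAt57000 : allFrom data.checkCoset 57000 1000 = true := by decide +kernel

theorem coset_okAt58000 : allFrom data.checkCoset 58000 1000 = true := by decide +kernel

theorem coset_okAt59000 : allFrom data.checkCoset 59000 1000 = true := by decide +kernel

theorem coset_okAt60000 : allFrom data.checkCoset 60000 1000 = true := by decide +kernel

theorem coset_okAt61000 : allFrom data.checkCoset 61000 1000 = true := by decide +kernel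

theorem coset_okAt62000 : allFrom data.checkCoset 62000 1000 = true := by decide +kernel

theorem coset_okAt63000 : allFrom data.checkCoset 63000 1000 = true := by decide +kernel

theorem coset_okAt64000 : allFrom data.checkCoset 64000 1000 = true := by decide +kernel

theorem coset_okAt65000 : allFrom data.checkCoset 65000 1000 = true := by decide +kernel

theorem coset_okAt66000 : allFrom data.checkCoset 66000 1000 = true := by decide +kernel

theorem coset_okAt67000 : allFrom data.checkCoset 67000 1000 = true := by decide +kernel

theorem coset_okAt68000 : allFrom data.checkCoset 68000 1000 = true := by decide +kernel

theorem coset_okAt69000 : allFrom data.checkCoset 69000 1000 = true := by decide +kernel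

theorem coset_okAt70000 : allFrom data.checkCoset 70000 1000 = true := by decide +kernel

theorem coset_okAt71000 : allFrom data.checkCoset 71000 1000 = true := by decide +kernel

theorem coset_okAt72000 : allFrom data.checkCoset 72000 1000 = true := by decide +kernel

theorem coset_okAt73000 : allFrom data.checkCoset 73000 1000 = true := by decide +kernel

theorem coset_okAt74000 : allFrom data.checkCoset 74000 1000 = true := by decide +kernel

theorem coset_okAt75000 : allFrom data.checkCoset 75000 1000 = true := by decide +kernel

theorem coset_okAt76000 : allFrom data.checkCoset 76000 1000 = true := by decide +kernel

theorem coset_okAt77000 : allFrom data.checkCoset 77000 1000 = true := by decide +kernel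

theorem coset_okAt78000 : allFrom data.checkCoset 78000 1000 = true := by decide +kernel

theorem coset_okAt79000 : allFrom data.checkCoset 79000 1000 = true := by decide +kernel

end Cfsg.Agent.CosetCert.ONIndex122760
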