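import Cfsg.Agent.CosetCert.ONIndex122760.Defs

/-! Generated: kernel checks. -/

set_option Elab.async false

namespace Cfsg.Agent.CosetCert.ONIndex122760

theorem coset_okAt80000 : allFrom data.checkCoset 80000 1000 = true := by decide +kernel

theorem coset_okAt81000 : allFrom data.checkCoset 81000 1000 = true := by decide +kernel

theorem coset_okAt82000 : allFrom data.checkCoset 82000 1000 = true := by decide +kernel

theorem coset_okAt83000 : allFrom data.checkCoset 83000 1000 = true := by decide +kernel

theorem coset_okAt84000 : allFrom data.checkCoset 84000 1000 = true := by decide +kernel

theorem coset_okAt85000 : allFrom data.checkCoset 85000 1000 = true := by decide +kernel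

theorem coset_okAt86000 : allFrom data.checkCoset 86000 1000 = true := by decide +kernel

theorem coset_okAt87000 : allFrom data.checkCoset 87000 1000 = true := by decide +kernel

theorem coset_okAt88000 : allFrom data.checkCoset 88000 1000 = true := by decide +kernel

theorem coset_okAt89000 : allFrom data.checkCoset 89000 1000 = true := by decide +kernel

theorem coset_okAt90000 : allFrom data.checkCoset 90000 1000 = true := by decide +kernel

theorem coset_okAt91000 : allFrom data.checkCoset 91000 1000 = true := by decide +kernel

theorem coset_okAt92000 : allFrom data.checkCoset 92000 1000 = true := by decide +kernel

theorem coset_okAt93000 : allFrom data.checkCoset 93000 1000 = true := by decide +kernel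

theorem coset_okAt94000 : allFrom data.checkCoset 94000 1000 = true := by decide +kernel

theorem coset_okAt95000 : allFrom data.checkCoset 95000 1000 = true := by decide +kernel

theorem coset_okAt96000 : allFrom data.checkCoset 96000 1000 = true := by decide +kernel

theorem coset_okAt97000 : allFrom data.checkCoset 97000 1000 = true := by decide +kernel

theorem coset_okAt98000 : allFrom data.checkCoset 98000 1000 = true := by decide +kernel

theorem coset_okAt99000 : allFrom data.checkCoset 99000 1000 = true := by decide +kernel

theorem coset_okAt100000 : allFrom data.checkCoset 100000 1000 = true := by decide +kernel

theorem coset_okAt101000 : allFrom data.checkCoset 101000 1000 = true := by decide +kernel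

theorem coset_okAt102000 : allFrom data.checkCoset 102000 1000 = true := by decide +kernel

theorem coset_okAt103000 : allFrom data.checkCoset 103000 1000 = true := by decide +kernel

theorem coset_okAt104000 : allFrom data.checkCoset 104000 1000 = true := by decide +kernel

theorem coset_okAt105000 : allFrom data.checkCoset 105000 1000 = true := by decide +kernel

theorem coset_okAt106000 : allFrom data.checkCoset 106000 1000 = true := by decide +kernel

theorem coset_okAt107000 : allFrom data.checkCoset 107000 1000 = true := by decide +kernel

theorem coset_okAt108000 : allFrom data.checkCoset 108000 1000 = true := by decide +kernel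

theorem coset_okAt109000 : allFrom data.checkCoset 109000 1000 = true := by decide +kernel

theorem coset_okAt110000 : allFrom data.checkCoset 110000 1000 = true := by decide +kernel

theorem coset_okAt111000 : allFrom data.checkCoset 111000 1000 = true := by decide +kernel

theorem coset_okAt112000 : allFrom data.checkCoset 112000 1000 = true := by decide +kernel

theorem coset_okAt113000 : allFrom data.checkCoset 113000 1000 = true := by decide +kernel

theorem coset_okAt114000 : allFrom data.checkCoset 114000 1000 = true := by decide +kernel

theorem coset_okAt115000 : allFrom data.checkCoset 115000 1000 = true := by decide +kernel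

theorem coset_okAt116000 : allFrom data.checkCoset 116000 1000 = true := by decide +kernel

theorem coset_okAt117000 : allFrom data.checkCoset 117000 1000 = true := by decide +kernel

theorem coset_okAt118000 : allFrom data.checkCoset 118000 1000 = true := by decide +kernel

theorem coset_okAt119000 : allFrom data.checkCoset 119000 1000 = true := by decide +kernel

end Cfsg.Agent.CosetCert.ONIndex122760
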