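import Cfsg.Agent.CosetCert.ONIndex122760.Defs

/-! Generated: kernel checks. -/

set_option Elab.async false

namespace Cfsg.Agent.CosetCert.ONIndex122760

theorem coset_okAt120000 : allFrom data.checkCoset 120000 1000 = true := by decide +kernel

theorem coset_okAt121000 : allFrom data.checkCoset 121000 1000 = true := by decide +kernel

theorem coset_okAt122000 : allFrom data.checkCoset 122000 760 = true := by decide +kernel

end Cfsg.Agent.CosetCert.ONIndex122760
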