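import Cfsg.Agent.CosetCert.ONIndex122760.CheckTable0
import Cfsg.Agent.CosetCert.ONIndex122760.CheckTable1
import Cfsg.Agent.CosetCert.ONIndex122760.CheckTable2
import Cfsg.Agent.CosetCert.ONIndex122760.CheckTable3

/-! Generated: kernel checks combined. -/

set_option maxRecDepth 100000

namespace Cfsg.Agent.CosetCert.ONIndex122760

theorem coset_ok : ∀ i, i < 122760 → data.checkCoset i = true := by
  have h0 : ∀ i, i < 0 → data.checkCoset i = true := forall_lt_zero
  have h1 := forall_lt_step (b := 1000) h0 coset_okAt0 rfl
  have h2 := forall_lt_step (b := 2000) h1 coset_okAt1000 rfl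
  have h3 := forall_lt_step (b := 3000) h2 coset_okAt2000 rfl
  have h4 := forall_lt_step (b := 4000) h3 coset_okAt3000 rfl
  have h5 := forall_lt_step (b := 5000) h4 coset_okAt4000 rfl
  have h6 := forall_lt_step (b := 6000) h5 coset_okAt5000 rfl
  have h7 := forall_lt_step (b := 7000) h6 coset_okAt6000 rfl
  have h8 := forall_lt_step (b := 8000) h7 coset_okAt7000 rfl
  have h9 := forall_lt_step (b := 9000) h8 coset_okAt8000 rfl
  have h10 := forall_lt_step (b := 10000) h9 coset_okAt9000 rfl
  have h11 := forall_lt_step (b := 11000) h10 coset_okAt10000 rfl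
  have h12 := forall_lt_step (b := 12000) h11 coset_okAt11000 rfl
  have h13 := forall_lt_step (b := 13000) h12 coset_okAt12000 rfl
  have h14 := forall_lt_step (b := 14000) h13 coset_okAt13000 rfl
  have h15 := forall_lt_step (b := 15000) h14 coset_okAt14000 rfl
  have h16 := forall_lt_step (b := 16000) h15 coset_okAt15000 rfl
  have h17 := forall_lt_step (b := 17000) h16 coset_okAt16000 rfl
  have h18 := forall_lt_step (b := 18000) h17 coset_okAt17000 rfl
  have h19 := forall_lt_step (b := 19000) h18 coset_okAt18000 rfl
  have h20 := forall_lt_step (b := 20000) h19 coset_okAt19000 rfl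
  have h21 := forall_lt_step (b := 21000) h20 coset_okAt20000 rfl
  have h22 := forall_lt_step (b := 22000) h21 coset_okAt21000 rfl
  have h23 := forall_lt_step (b := 23000) h22 coset_okAt22000 rfl
  have h24 := forall_lt_step (b := 24000) h23 coset_okAt23000 rfl
  have h25 := forall_lt_step (b := 25000) h24 coset_okAt24000 rfl
  have h26 := forall_lt_step (b := 26000) h25 coset_okAt25000 rfl
  have h27 := forall_lt_step (b := 27000) h26 coset_okAt26000 rfl
  have h28 := forall_lt_step (b := 28000) h27 coset_okAt27000 rfl
  have h29 := forall_lt_step (b := 29000) h28 coset_okAt28000 rfl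
  have h30 := forall_lt_step (b := 30000) h29 coset_okAt29000 rfl
  have h31 := forall_lt_step (b := 31000) h30 coset_okAt30000 rfl
  have h32 := forall_lt_step (b := 32000) h31 coset_okAt31000 rfl
  have h33 := forall_lt_step (b := 33000) h32 coset_okAt32000 rfl
  have h34 := forall_lt_step (b := 34000) h33 coset_okAt33000 rfl
  have h35 := forall_lt_step (b := 35000) h34 coset_okAt34000 rfl
  have h36 := forall_lt_step (b := 36000) h35 coset_okAt35000 rfl
  have h37 := forall_lt_step (b := 37000) h36 coset_okAt36000 rfl
  have h38 := forall_lt_step (b := 38000) h37 coset_okAt37000 rfl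
  have h39 := forall_lt_step (b := 39000) h38 coset_okAt38000 rfl
  have h40 := forall_lt_step (b := 40000) h39 coset_okAt39000 rfl
  have h41 := forall_lt_step (b := 41000) h40 coset_okAt40000 rfl
  have h42 := forall_lt_step (b := 42000) h41 coset_okAt41000 rfl
  have h43 := forall_lt_step (b := 43000) h42 coset_okAt42000 rfl
  have h44 := forall_lt_step (b := 44000) h43 coset_okAt43000 rfl
  have h45 := forall_lt_step (b := 45000) h44 coset_okAt44000 rfl
  have h46 := forall_lt_step (b := 46000) h45 coset_okAt45000 rfl
  have h47 := forall_lt_step (b := 47000) h46 coset_okAt46000 rfl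
  have h48 := forall_lt_step (b := 48000) h47 coset_okAt47000 rfl
  have h49 := forall_lt_step (b := 49000) h48 coset_okAt48000 rfl
  have h50 := forall_lt_step (b := 50000) h49 coset_okAt49000 rfl
  have h51 := forall_lt_step (b := 51000) h50 coset_okAt50000 rfl
  have h52 := forall_lt_step (b := 52000) h51 coset_okAt51000 rfl
  have h53 := forall_lt_step (b := 53000) h52 coset_okAt52000 rfl
  have h54 := forall_lt_step (b := 54000) h53 coset_okAt53000 rfl
  have h55 := forall_lt_step (b := 55000) h54 coset_okAt54000 rfl
  have h56 := forall_lt_step (b := 56000) h55 coset_okAt55000 rfl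
  have h57 := forall_lt_step (b := 57000) h56 coset_okAt56000 rfl
  have h58 := forall_lt_step (b := 58000) h57 coset_okAt57000 rfl
  have h59 := forall_lt_step (b := 59000) h58 coset_okAt58000 rfl
  have h60 := forall_lt_step (b := 60000) h59 coset_okAt59000 rfl
  have h61 := forall_lt_step (b := 61000) h60 coset_okAt60000 rfl
  have h62 := forall_lt_step (b := 62000) h61 coset_okAt61000 rfl
  have h63 := forall_lt_step (b := 63000) h62 coset_okAt62000 rfl
  have h64 := forall_lt_step (b := 64000) h63 coset_okAt63000 rfl
  have h65 := forall_lt_step (b := 65000) h64 coset_okAt64000 rfl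
  have h66 := forall_lt_step (b := 66000) h65 coset_okAt65000 rfl
  have h67 := forall_lt_step (b := 67000) h66 coset_okAt66000 rfl
  have h68 := forall_lt_step (b := 68000) h67 coset_okAt67000 rfl
  have h69 := forall_lt_step (b := 69000) h68 coset_okAt68000 rfl
  have h70 := forall_lt_step (b := 70000) h69 coset_okAt69000 rfl
  have h71 := forall_lt_step (b := 71000) h70 coset_okAt70000 rfl
  have h72 := forall_lt_step (b := 72000) h71 coset_okAt71000 rfl
  have h73 := forall_lt_step (b := 73000) h72 coset_okAt72000 rfl
  have h74 := forall_lt_step (b := 74000) h73 coset_okAt73000 rfl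
  have h75 := forall_lt_step (b := 75000) h74 coset_okAt74000 rfl
  have h76 := forall_lt_step (b := 76000) h75 coset_okAt75000 rfl
  have h77 := forall_lt_step (b := 77000) h76 coset_okAt76000 rfl
  have h78 := forall_lt_step (b := 78000) h77 coset_okAt77000 rfl
  have h79 := forall_lt_step (b := 79000) h78 coset_okAt78000 rfl
  have h80 := forall_lt_step (b := 80000) h79 coset_okAt79000 rfl
  have h81 := forall_lt_step (b := 81000) h80 coset_okAt80000 rfl
  have h82 := forall_lt_step (b := 82000) h81 coset_okAt81000 rfl
  have h83 := forall_lt_step (b := 83000) h82 coset_okAt82000 rfl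
  have h84 := forall_lt_step (b := 84000) h83 coset_okAt83000 rfl
  have h85 := forall_lt_step (b := 85000) h84 coset_okAt84000 rfl
  have h86 := forall_lt_step (b := 86000) h85 coset_okAt85000 rfl
  have h87 := forall_lt_step (b := 87000) h86 coset_okAt86000 rfl
  have h88 := forall_lt_step (b := 88000) h87 coset_okAt87000 rfl
  have h89 := forall_lt_step (b := 89000) h88 coset_okAt88000 rfl
  have h90 := forall_lt_step (b := 90000) h89 coset_okAt89000 rfl
  have h91 := forall_lt_step (b := 91000) h90 coset_okAt90000 rfl
  have h92 := forall_lt_step (b := 92000) h91 coset_okAt91000 rfl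
  have h93 := forall_lt_step (b := 93000) h92 coset_okAt92000 rfl
  have h94 := forall_lt_step (b := 94000) h93 coset_okAt93000 rfl
  have h95 := forall_lt_step (b := 95000) h94 coset_okAt94000 rfl
  have h96 := forall_lt_step (b := 96000) h95 coset_okAt95000 rfl
  have h97 := forall_lt_step (b := 97000) h96 coset_okAt96000 rfl
  have h98 := forall_lt_step (b := 98000) h97 coset_okAt97000 rfl
  have h99 := forall_lt_step (b := 99000) h98 coset_okAt98000 rfl
  have h100 := forall_lt_step (b := 100000) h99 coset_okAt99000 rfl
  have h101 := forall_lt_step (b := 101000) h100 coset_okAt100000 rfl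
  have h102 := forall_lt_step (b := 102000) h101 coset_okAt101000 rfl
  have h103 := forall_lt_step (b := 103000) h102 coset_okAt102000 rfl
  have h104 := forall_lt_step (b := 104000) h103 coset_okAt103000 rfl
  have h105 := forall_lt_step (b := 105000) h104 coset_okAt104000 rfl
  have h106 := forall_lt_step (b := 106000) h105 coset_okAt105000 rfl
  have h107 := forall_lt_step (b := 107000) h106 coset_okAt106000 rfl
  have h108 := forall_lt_step (b := 108000) h107 coset_okAt107000 rfl
  have h109 := forall_lt_step (b := 109000) h108 coset_okAt108000 rfl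
  have h110 := forall_lt_step (b := 110000) h109 coset_okAt109000 rfl
  have h111 := forall_lt_step (b := 111000) h110 coset_okAt110000 rfl
  have h112 := forall_lt_step (b := 112000) h111 coset_okAt111000 rfl
  have h113 := forall_lt_step (b := 113000) h112 coset_okAt112000 rfl
  have h114 := forall_lt_step (b := 114000) h113 coset_okAt113000 rfl
  have h115 := forall_lt_step (b := 115000) h114 coset_okAt114000 rfl
  have h116 := forall_lt_step (b := 116000) h115 coset_okAt115000 rfl
  have h117 := forall_lt_step (b := 117000) h116 coset_okAt116000 rfl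
  have h118 := forall_lt_step (b := 118000) h117 coset_okAt117000 rfl
  have h119 := forall_lt_step (b := 119000) h118 coset_okAt118000 rfl
  have h120 := forall_lt_step (b := 120000) h119 coset_okAt119000 rfl
  have h121 := forall_lt_step (b := 121000) h120 coset_okAt120000 rfl
  have h122 := forall_lt_step (b := 122000) h121 coset_okAt121000 rfl
  have h123 := forall_lt_step (b := 122760) h122 coset_okAt122000 rfl
  exact h123

end Cfsg.Agent.CosetCert.ONIndex122760
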