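import Cfsg.Agent.CosetCert.ONIndex122760.Defs

/-! Generated: kernel checks. -/

set_option Elab.async false

namespace Cfsg.Agent.CosetCert.ONIndex122760

theorem log_okAt80000 : allFrom data.checkLog 80000 2500 = true := by decide +kernel

theorem log_okAt82500 : allFrom data.checkLog 82500 2500 = true := by decide +kernel

theorem log_okAt85000 : allFrom data.checkLog 85000 2500 = true := by decide +kernel

theorem log_okAt87500 : allFrom data.checkLog 87500 2500 = true := by decide +kernel

theorem log_okAt90000 : allFrom data.checkLog 90000 2500 = true := by decide +kernel

theorem log_okAt92500 : allFrom data.checkLog 92500 2500 = true := by decide +kernel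

theorem log_okAt95000 : allFrom data.checkLog 95000 2500 = true := by decide +kernel

theorem log_okAt97500 : allFrom data.checkLog 97500 2500 = true := by decide +kernel

theorem log_okAt100000 : allFrom data.checkLog 100000 2500 = true := by decide +kernel

theorem log_okAt102500 : allFrom data.checkLog 102500 2500 = true := by decide +kernel

theorem log_okAt105000 : allFrom data.checkLog 105000 2500 = true := by decide +kernel

theorem log_okAt107500 : allFrom data.checkLog 107500 2500 = true := by decide +kernel

theorem log_okAt110000 : allFrom data.checkLog 110000 2500 = true := by decide +kernel

theorem log_okAt112500 : allFrom data.checkLog 112500 2500 = true := by decide +kernel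

theorem log_okAt115000 : allFrom data.checkLog 115000 2500 = true := by decide +kernel

theorem log_okAt117500 : allFrom data.checkLog 117500 2500 = true := by decide +kernel

theorem log_okAt120000 : allFrom data.checkLog 120000 2500 = true := by decide +kernel

theorem log_okAt122500 : allFrom data.checkLog 122500 2500 = true := by decide +kernel

theorem log_okAt125000 : allFrom data.checkLog 125000 2500 = true := by decide +kernel

theorem log_okAt127500 : allFrom data.checkLog 127500 2500 = true := by decide +kernel

theorem log_okAt130000 : allFrom data.checkLog 130000 2500 = true := by decide +kernel

theorem log_okAt132500 : allFrom data.checkLog 132500 2500 = true := by decide +kernel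

theorem log_okAt135000 : allFrom data.checkLog 135000 2500 = true := by decide +kernel

theorem log_okAt137500 : allFrom data.checkLog 137500 2500 = true := by decide +kernel

theorem log_okAt140000 : allFrom data.checkLog 140000 2500 = true := by decide +kernel

theorem log_okAt142500 : allFrom data.checkLog 142500 2500 = true := by decide +kernel

theorem log_okAt145000 : allFrom data.checkLog 145000 2500 = true := by decide +kernel

theorem log_okAt147500 : allFrom data.checkLog 147500 2500 = true := by decide +kernel

theorem log_okAt150000 : allFrom data.checkLog 150000 2500 = true := by decide +kernel

theorem log_okAt152500 : allFrom data.checkLog 152500 2500 = true := by decide +kernel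

theorem log_okAt155000 : allFrom data.checkLog 155000 2500 = true := by decide +kernel

theorem log_okAt157500 : allFrom data.checkLog 157500 2500 = true := by decide +kernel

end Cfsg.Agent.CosetCert.ONIndex122760
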