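import Cfsg.Agent.CosetCert.ONIndex122760.Defs

/-! Generated: kernel checks. -/

set_option Elab.async false

namespace Cfsg.Agent.CosetCert.ONIndex122760

theorem log_okAt400000 : allFrom data.checkLog 400000 2500 = true := by decide +kernel

theorem log_okAt402500 : allFrom data.checkLog 402500 2500 = true := by decide +kernel

theorem log_okAt405000 : allFrom data.checkLog 405000 2500 = true := by decide +kernel

theorem log_okAt407500 : allFrom data.checkLog 407500 2500 = true := by decide +kernel

theorem log_okAt410000 : allFrom data.checkLog 410000 2500 = true := by decide +kernel

theorem log_okAt412500 : allFrom data.checkLog 412500 2500 = true := by decide +kernel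

theorem log_okAt415000 : allFrom data.checkLog 415000 2500 = true := by decide +kernel

theorem log_okAt417500 : allFrom data.checkLog 417500 2500 = true := by decide +kernel

theorem log_okAt420000 : allFrom data.checkLog 420000 2500 = true := by decide +kernel

theorem log_okAt422500 : allFrom data.checkLog 422500 2500 = true := by decide +kernel

theorem log_okAt425000 : allFrom data.checkLog 425000 2500 = true := by decide +kernel

theorem log_okAt427500 : allFrom data.checkLog 427500 2500 = true := by decide +kernel

theorem log_okAt430000 : allFrom data.checkLog 430000 2500 = true := by decide +kernel

theorem log_okAt432500 : allFrom data.checkLog 432500 2500 = true := by decide +kernel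

theorem log_okAt435000 : allFrom data.checkLog 435000 2500 = true := by decide +kernel

theorem log_okAt437500 : allFrom data.checkLog 437500 2500 = true := by decide +kernel

theorem log_okAt440000 : allFrom data.checkLog 440000 2500 = true := by decide +kernel

theorem log_okAt442500 : allFrom data.checkLog 442500 2500 = true := by decide +kernel

theorem log_okAt445000 : allFrom data.checkLog 445000 2500 = true := by decide +kernel

theorem log_okAt447500 : allFrom data.checkLog 447500 2500 = true := by decide +kernel

theorem log_okAt450000 : allFrom data.checkLog 450000 2500 = true := by decide +kernel

theorem log_okAt452500 : allFrom data.checkLog 452500 2500 = true := by decide +kernel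

theorem log_okAt455000 : allFrom data.checkLog 455000 2500 = true := by decide +kernel

theorem log_okAt457500 : allFrom data.checkLog 457500 2500 = true := by decide +kernel

theorem log_okAt460000 : allFrom data.checkLog 460000 2500 = true := by decide +kernel

theorem log_okAt462500 : allFrom data.checkLog 462500 2500 = true := by decide +kernel

theorem log_okAt465000 : allFrom data.checkLog 465000 2500 = true := by decide +kernel

theorem log_okAt467500 : allFrom data.checkLog 467500 2500 = true := by decide +kernel

theorem log_okAt470000 : allFrom data.checkLog 470000 2500 = true := by decide +kernel

theorem log_okAt472500 : allFrom data.checkLog 472500 2500 = true := by decide +kernel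

theorem log_okAt475000 : allFrom data.checkLog 475000 2500 = true := by decide +kernel

theorem log_okAt477500 : allFrom data.checkLog 477500 2500 = true := by decide +kernel

end Cfsg.Agent.CosetCert.ONIndex122760
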