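import Cfsg.Agent.CosetCert.ONIndex122760.Defs

/-! Generated: kernel checks. -/

set_option Elab.async false

namespace Cfsg.Agent.CosetCert.ONIndex122760

theorem log_okAt480000 : allFrom data.checkLog 480000 2500 = true := by decide +kernel

theorem log_okAt482500 : allFrom data.checkLog 482500 2500 = true := by decide +kernel

theorem log_okAt485000 : allFrom data.checkLog 485000 2500 = true := by decide +kernel

theorem log_okAt487500 : allFrom data.checkLog 487500 2500 = true := by decide +kernel

theorem log_okAt490000 : allFrom data.checkLog 490000 2500 = true := by decide +kernel

theorem log_okAt492500 : allFrom data.checkLog 492500 2500 = true := by decide +kernel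

theorem log_okAt495000 : allFrom data.checkLog 495000 2500 = true := by decide +kernel

theorem log_okAt497500 : allFrom data.checkLog 497500 2500 = true := by decide +kernel

theorem log_okAt500000 : allFrom data.checkLog 500000 2500 = true := by decide +kernel

theorem log_okAt502500 : allFrom data.checkLog 502500 2500 = true := by decide +kernel

theorem log_okAt505000 : allFrom data.checkLog 505000 2500 = true := by decide +kernel

theorem log_okAt507500 : allFrom data.checkLog 507500 2500 = true := by decide +kernel

theorem log_okAt510000 : allFrom data.checkLog 510000 2500 = true := by decide +kernel

theorem log_okAt512500 : allFrom data.checkLog 512500 2500 = true := by decide +kernel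

theorem log_okAt515000 : allFrom data.checkLog 515000 2500 = true := by decide +kernel

theorem log_okAt517500 : allFrom data.checkLog 517500 2500 = true := by decide +kernel

theorem log_okAt520000 : allFrom data.checkLog 520000 2500 = true := by decide +kernel

theorem log_okAt522500 : allFrom data.checkLog 522500 2500 = true := by decide +kernel

theorem log_okAt525000 : allFrom data.checkLog 525000 2500 = true := by decide +kernel

theorem log_okAt527500 : allFrom data.checkLog 527500 2500 = true := by decide +kernel

theorem log_okAt530000 : allFrom data.checkLog 530000 2500 = true := by decide +kernel

theorem log_okAt532500 : allFrom data.checkLog 532500 2500 = true := by decide +kernel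

theorem log_okAt535000 : allFrom data.checkLog 535000 2500 = true := by decide +kernel

theorem log_okAt537500 : allFrom data.checkLog 537500 2500 = true := by decide +kernel

theorem log_okAt540000 : allFrom data.checkLog 540000 2500 = true := by decide +kernel

theorem log_okAt542500 : allFrom data.checkLog 542500 2500 = true := by decide +kernel

theorem log_okAt545000 : allFrom data.checkLog 545000 2500 = true := by decide +kernel

theorem log_okAt547500 : allFrom data.checkLog 547500 2500 = true := by decide +kernel

theorem log_okAt550000 : allFrom data.checkLog 550000 2500 = true := by decide +kernel

theorem log_okAt552500 : allFrom data.checkLog 552500 2500 = true := by decide +kernel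

theorem log_okAt555000 : allFrom data.checkLog 555000 2500 = true := by decide +kernel

theorem log_okAt557500 : allFrom data.checkLog 557500 2500 = true := by decide +kernel

end Cfsg.Agent.CosetCert.ONIndex122760
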