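import Cfsg.Agent.CosetCert.ONIndex122760.Defs

/-! Generated: kernel checks. -/

set_option Elab.async false

namespace Cfsg.Agent.CosetCert.ONIndex122760

theorem log_okAt560000 : allFrom data.checkLog 560000 2500 = true := by decide +kernel

theorem log_okAt562500 : allFrom data.checkLog 562500 2500 = true := by decide +kernel

theorem log_okAt565000 : allFrom data.checkLog 565000 2500 = true := by decide +kernel

theorem log_okAt567500 : allFrom data.checkLog 567500 2500 = true := by decide +kernel

theorem log_okAt570000 : allFrom data.checkLog 570000 2500 = true := by decide +kernel

theorem log_okAt572500 : allFrom data.checkLog 572500 2500 = true := by decide +kernel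

theorem log_okAt575000 : allFrom data.checkLog 575000 2500 = true := by decide +kernel

theorem log_okAt577500 : allFrom data.checkLog 577500 2500 = true := by decide +kernel

theorem log_okAt580000 : allFrom data.checkLog 580000 2500 = true := by decide +kernel

theorem log_okAt582500 : allFrom data.checkLog 582500 2500 = true := by decide +kernel

theorem log_okAt585000 : allFrom data.checkLog 585000 2500 = true := by decide +kernel

theorem log_okAt587500 : allFrom data.checkLog 587500 2500 = true := by decide +kernel

theorem log_okAt590000 : allFrom data.checkLog 590000 2500 = true := by decide +kernel

theorem log_okAt592500 : allFrom data.checkLog 592500 2500 = true := by decide +kernel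

theorem log_okAt595000 : allFrom data.checkLog 595000 2500 = true := by decide +kernel

theorem log_okAt597500 : allFrom data.checkLog 597500 2500 = true := by decide +kernel

theorem log_okAt600000 : allFrom data.checkLog 600000 2500 = true := by decide +kernel

theorem log_okAt602500 : allFrom data.checkLog 602500 2500 = true := by decide +kernel

theorem log_okAt605000 : allFrom data.checkLog 605000 2500 = true := by decide +kernel

theorem log_okAt607500 : allFrom data.checkLog 607500 2500 = true := by decide +kernel

theorem log_okAt610000 : allFrom data.checkLog 610000 2500 = true := by decide +kernel

theorem log_okAt612500 : allFrom data.checkLog 612500 2500 = true := by decide +kernel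

theorem log_okAt615000 : allFrom data.checkLog 615000 2500 = true := by decide +kernel

theorem log_okAt617500 : allFrom data.checkLog 617500 2500 = true := by decide +kernel

theorem log_okAt620000 : allFrom data.checkLog 620000 2500 = true := by decide +kernel

theorem log_okAt622500 : allFrom data.checkLog 622500 2500 = true := by decide +kernel

theorem log_okAt625000 : allFrom data.checkLog 625000 2500 = true := by decide +kernel

theorem log_okAt627500 : allFrom data.checkLog 627500 2500 = true := by decide +kernel

theorem log_okAt630000 : allFrom data.checkLog 630000 2500 = true := by decide +kernel

theorem log_okAt632500 : allFrom data.checkLog 632500 2500 = true := by decide +kernel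

theorem log_okAt635000 : allFrom data.checkLog 635000 2500 = true := by decide +kernel

theorem log_okAt637500 : allFrom data.checkLog 637500 2500 = true := by decide +kernel

end Cfsg.Agent.CosetCert.ONIndex122760
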