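import Cfsg.Agent.CosetCert.ONIndex122760.Defs

/-! Generated: kernel checks. -/

set_option Elab.async false

namespace Cfsg.Agent.CosetCert.ONIndex122760

theorem log_okAt640000 : allFrom data.checkLog 640000 2500 = true := by decide +kernel

theorem log_okAt642500 : allFrom data.checkLog 642500 2500 = true := by decide +kernel

theorem log_okAt645000 : allFrom data.checkLog 645000 2500 = true := by decide +kernel

theorem log_okAt647500 : allFrom data.checkLog 647500 2500 = true := by decide +kernel

theorem log_okAt650000 : allFrom data.checkLog 650000 2500 = true := by decide +kernel

theorem log_okAt652500 : allFrom data.checkLog 652500 2500 = true := by decide +kernel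

theorem log_okAt655000 : allFrom data.checkLog 655000 2500 = true := by decide +kernel

theorem log_okAt657500 : allFrom data.checkLog 657500 2500 = true := by decide +kernel

theorem log_okAt660000 : allFrom data.checkLog 660000 2500 = true := by decide +kernel

theorem log_okAt662500 : allFrom data.checkLog 662500 2500 = true := by decide +kernel

theorem log_okAt665000 : allFrom data.checkLog 665000 2500 = true := by decide +kernel

theorem log_okAt667500 : allFrom data.checkLog 667500 2500 = true := by decide +kernel

theorem log_okAt670000 : allFrom data.checkLog 670000 2500 = true := by decide +kernel

theorem log_okAt672500 : allFrom data.checkLog 672500 2500 = true := by decide +kernel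

theorem log_okAt675000 : allFrom data.checkLog 675000 2500 = true := by decide +kernel

theorem log_okAt677500 : allFrom data.checkLog 677500 2500 = true := by decide +kernel

theorem log_okAt680000 : allFrom data.checkLog 680000 2500 = true := by decide +kernel

theorem log_okAt682500 : allFrom data.checkLog 682500 2500 = true := by decide +kernel

theorem log_okAt685000 : allFrom data.checkLog 685000 2500 = true := by decide +kernel

theorem log_okAt687500 : allFrom data.checkLog 687500 2500 = true := by decide +kernel

theorem log_okAt690000 : allFrom data.checkLog 690000 2500 = true := by decide +kernel

theorem log_okAt692500 : allFrom data.checkLog 692500 2500 = true := by decide +kernel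

theorem log_okAt695000 : allFrom data.checkLog 695000 2500 = true := by decide +kernel

theorem log_okAt697500 : allFrom data.checkLog 697500 2500 = true := by decide +kernel

theorem log_okAt700000 : allFrom data.checkLog 700000 2500 = true := by decide +kernel

theorem log_okAt702500 : allFrom data.checkLog 702500 2500 = true := by decide +kernel

theorem log_okAt705000 : allFrom data.checkLog 705000 2500 = true := by decide +kernel

theorem log_okAt707500 : allFrom data.checkLog 707500 2500 = true := by decide +kernel

theorem log_okAt710000 : allFrom data.checkLog 710000 2500 = true := by decide +kernel

theorem log_okAt712500 : allFrom data.checkLog 712500 2500 = true := by decide +kernel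

theorem log_okAt715000 : allFrom data.checkLog 715000 2500 = true := by decide +kernel

theorem log_okAt717500 : allFrom data.checkLog 717500 2500 = true := by decide +kernel

end Cfsg.Agent.CosetCert.ONIndex122760
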