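import Cfsg.Agent.CosetCert.ONIndex122760.CheckLog0
import Cfsg.Agent.CosetCert.ONIndex122760.CheckLog1
import Cfsg.Agent.CosetCert.ONIndex122760.CheckLog2
import Cfsg.Agent.CosetCert.ONIndex122760.CheckLog3
import Cfsg.Agent.CosetCert.ONIndex122760.CheckLog4
import Cfsg.Agent.CosetCert.ONIndex122760.CheckLog5
import Cfsg.Agent.CosetCert.ONIndex122760.CheckLog6
import Cfsg.Agent.CosetCert.ONIndex122760.CheckLog7
import Cfsg.Agent.CosetCert.ONIndex122760.CheckLog8
import Cfsg.Agent.CosetCert.ONIndex122760.CheckLog9

/-! Generated: kernel checks combined. -/

set_option maxRecDepth 100000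

namespace Cfsg.Agent.CosetCert.ONIndex122760

theorem log_ok : ∀ i, i < 799512 → data.checkLog i = true := by
  have h0 : ∀ i, i < 0 → data.checkLog i = true := forall_lt_zero
  have h1 := forall_lt_step (b := 2500) h0 log_okAt0 rfl
  have h2 := forall_lt_step (b := 5000) h1 log_okAt2500 rfl
  have h3 := forall_lt_step (b := 7500) h2 log_okAt5000 rfl
  have h4 := forall_lt_step (b := 10000) h3 log_okAt7500 rfl
  have h5 := forall_lt_step (b := 12500) h4 log_okAt10000 rfl
  have h6 := forall_lt_step (b := 15000) h5 log_okAt12500 rfl
  have h7 := forall_lt_step (b := 17500) h6 log_okAt15000 rfl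
  have h8 := forall_lt_step (b := 20000) h7 log_okAt17500 rfl
  have h9 := forall_lt_step (b := 22500) h8 log_okAt20000 rfl
  have h10 := forall_lt_step (b := 25000) h9 log_okAt22500 rfl
  have h11 := forall_lt_step (b := 27500) h10 log_okAt25000 rfl
  have h12 := forall_lt_step (b := 30000) h11 log_okAt27500 rfl
  have h13 := forall_lt_step (b := 32500) h12 log_okAt30000 rfl
  have h14 := forall_lt_step (b := 35000) h13 log_okAt32500 rfl
  have h15 := forall_lt_step (b := 37500) h14 log_okAt35000 rfl
  have h16 := forall_lt_step (b := 40000) h15 log_okAt37500 rfl
  have h17 := forall_lt_step (b := 42500) h16 log_okAt40000 rfl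
  have h18 := forall_lt_step (b := 45000) h17 log_okAt42500 rfl
  have h19 := forall_lt_step (b := 47500) h18 log_okAt45000 rfl
  have h20 := forall_lt_step (b := 50000) h19 log_okAt47500 rfl
  have h21 := forall_lt_step (b := 52500) h20 log_okAt50000 rfl
  have h22 := forall_lt_step (b := 55000) h21 log_okAt52500 rfl
  have h23 := forall_lt_step (b := 57500) h22 log_okAt55000 rfl
  have h24 := forall_lt_step (b := 60000) h23 log_okAt57500 rfl
  have h25 := forall_lt_step (b := 62500) h24 log_okAt60000 rfl
  have h26 := forall_lt_step (b := 65000) h25 log_okAt62500 rfl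
  have h27 := forall_lt_step (b := 67500) h26 log_okAt65000 rfl
  have h28 := forall_lt_step (b := 70000) h27 log_okAt67500 rfl
  have h29 := forall_lt_step (b := 72500) h28 log_okAt70000 rfl
  have h30 := forall_lt_step (b := 75000) h29 log_okAt72500 rfl
  have h31 := forall_lt_step (b := 77500) h30 log_okAt75000 rfl
  have h32 := forall_lt_step (b := 80000) h31 log_okAt77500 rfl
  have h33 := forall_lt_step (b := 82500) h32 log_okAt80000 rfl
  have h34 := forall_lt_step (b := 85000) h33 log_okAt82500 rfl
  have h35 := forall_lt_step (b := 87500) h34 log_okAt85000 rfl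
  have h36 := forall_lt_step (b := 90000) h35 log_okAt87500 rfl
  have h37 := forall_lt_step (b := 92500) h36 log_okAt90000 rfl
  have h38 := forall_lt_step (b := 95000) h37 log_okAt92500 rfl
  have h39 := forall_lt_step (b := 97500) h38 log_okAt95000 rfl
  have h40 := forall_lt_step (b := 100000) h39 log_okAt97500 rfl
  have h41 := forall_lt_step (b := 102500) h40 log_okAt100000 rfl
  have h42 := forall_lt_step (b := 105000) h41 log_okAt102500 rfl
  have h43 := forall_lt_step (b := 107500) h42 log_okAt105000 rfl
  have h44 := forall_lt_step (b := 110000) h43 log_okAt107500 rfl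
  have h45 := forall_lt_step (b := 112500) h44 log_okAt110000 rfl
  have h46 := forall_lt_step (b := 115000) h45 log_okAt112500 rfl
  have h47 := forall_lt_step (b := 117500) h46 log_okAt115000 rfl
  have h48 := forall_lt_step (b := 120000) h47 log_okAt117500 rfl
  have h49 := forall_lt_step (b := 122500) h48 log_okAt120000 rfl
  have h50 := forall_lt_step (b := 125000) h49 log_okAt122500 rfl
  have h51 := forall_lt_step (b := 127500) h50 log_okAt125000 rfl
  have h52 := forall_lt_step (b := 130000) h51 log_okAt127500 rfl
  have h53 := forall_lt_step (b := 132500) h52 log_okAt130000 rfl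
  have h54 := forall_lt_step (b := 135000) h53 log_okAt132500 rfl
  have h55 := forall_lt_step (b := 137500) h54 log_okAt135000 rfl
  have h56 := forall_lt_step (b := 140000) h55 log_okAt137500 rfl
  have h57 := forall_lt_step (b := 142500) h56 log_okAt140000 rfl
  have h58 := forall_lt_step (b := 145000) h57 log_okAt142500 rfl
  have h59 := forall_lt_step (b := 147500) h58 log_okAt145000 rfl
  have h60 := forall_lt_step (b := 150000) h59 log_okAt147500 rfl
  have h61 := forall_lt_step (b := 152500) h60 log_okAt150000 rfl
  have h62 := forall_lt_step (b := 155000) h61 log_okAt152500 rfl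
  have h63 := forall_lt_step (b := 157500) h62 log_okAt155000 rfl
  have h64 := forall_lt_step (b := 160000) h63 log_okAt157500 rfl
  have h65 := forall_lt_step (b := 162500) h64 log_okAt160000 rfl
  have h66 := forall_lt_step (b := 165000) h65 log_okAt162500 rfl
  have h67 := forall_lt_step (b := 167500) h66 log_okAt165000 rfl
  have h68 := forall_lt_step (b := 170000) h67 log_okAt167500 rfl
  have h69 := forall_lt_step (b := 172500) h68 log_okAt170000 rfl
  have h70 := forall_lt_step (b := 175000) h69 log_okAt172500 rfl
  have h71 := forall_lt_step (b := 177500) h70 log_okAt175000 rfl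
  have h72 := forall_lt_step (b := 180000) h71 log_okAt177500 rfl
  have h73 := forall_lt_step (b := 182500) h72 log_okAt180000 rfl
  have h74 := forall_lt_step (b := 185000) h73 log_okAt182500 rfl
  have h75 := forall_lt_step (b := 187500) h74 log_okAt185000 rfl
  have h76 := forall_lt_step (b := 190000) h75 log_okAt187500 rfl
  have h77 := forall_lt_step (b := 192500) h76 log_okAt190000 rfl
  have h78 := forall_lt_step (b := 195000) h77 log_okAt192500 rfl
  have h79 := forall_lt_step (b := 197500) h78 log_okAt195000 rfl
  have h80 := forall_lt_step (b := 200000) h79 log_okAt197500 rfl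
  have h81 := forall_lt_step (b := 202500) h80 log_okAt200000 rfl
  have h82 := forall_lt_step (b := 205000) h81 log_okAt202500 rfl
  have h83 := forall_lt_step (b := 207500) h82 log_okAt205000 rfl
  have h84 := forall_lt_step (b := 210000) h83 log_okAt207500 rfl
  have h85 := forall_lt_step (b := 212500) h84 log_okAt210000 rfl
  have h86 := forall_lt_step (b := 215000) h85 log_okAt212500 rfl
  have h87 := forall_lt_step (b := 217500) h86 log_okAt215000 rfl
  have h88 := forall_lt_step (b := 220000) h87 log_okAt217500 rfl
  have h89 := forall_lt_step (b := 222500) h88 log_okAt220000 rfl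
  have h90 := forall_lt_step (b := 225000) h89 log_okAt222500 rfl
  have h91 := forall_lt_step (b := 227500) h90 log_okAt225000 rfl
  have h92 := forall_lt_step (b := 230000) h91 log_okAt227500 rfl
  have h93 := forall_lt_step (b := 232500) h92 log_okAt230000 rfl
  have h94 := forall_lt_step (b := 235000) h93 log_okAt232500 rfl
  have h95 := forall_lt_step (b := 237500) h94 log_okAt235000 rfl
  have h96 := forall_lt_step (b := 240000) h95 log_okAt237500 rfl
  have h97 := forall_lt_step (b := 242500) h96 log_okAt240000 rfl
  have h98 := forall_lt_step (b := 245000) h97 log_okAt242500 rfl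
  have h99 := forall_lt_step (b := 247500) h98 log_okAt245000 rfl
  have h100 := forall_lt_step (b := 250000) h99 log_okAt247500 rfl
  have h101 := forall_lt_step (b := 252500) h100 log_okAt250000 rfl
  have h102 := forall_lt_step (b := 255000) h101 log_okAt252500 rfl
  have h103 := forall_lt_step (b := 257500) h102 log_okAt255000 rfl
  have h104 := forall_lt_step (b := 260000) h103 log_okAt257500 rfl
  have h105 := forall_lt_step (b := 262500) h104 log_okAt260000 rfl
  have h106 := forall_lt_step (b := 265000) h105 log_okAt262500 rfl
  have h107 := forall_lt_step (b := 267500) h106 log_okAt265000 rfl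
  have h108 := forall_lt_step (b := 270000) h107 log_okAt267500 rfl
  have h109 := forall_lt_step (b := 272500) h108 log_okAt270000 rfl
  have h110 := forall_lt_step (b := 275000) h109 log_okAt272500 rfl
  have h111 := forall_lt_step (b := 277500) h110 log_okAt275000 rfl
  have h112 := forall_lt_step (b := 280000) h111 log_okAt277500 rfl
  have h113 := forall_lt_step (b := 282500) h112 log_okAt280000 rfl
  have h114 := forall_lt_step (b := 285000) h113 log_okAt282500 rfl
  have h115 := forall_lt_step (b := 287500) h114 log_okAt285000 rfl
  have h116 := forall_lt_step (b := 290000) h115 log_okAt287500 rfl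
  have h117 := forall_lt_step (b := 292500) h116 log_okAt290000 rfl
  have h118 := forall_lt_step (b := 295000) h117 log_okAt292500 rfl
  have h119 := forall_lt_step (b := 297500) h118 log_okAt295000 rfl
  have h120 := forall_lt_step (b := 300000) h119 log_okAt297500 rfl
  have h121 := forall_lt_step (b := 302500) h120 log_okAt300000 rfl
  have h122 := forall_lt_step (b := 305000) h121 log_okAt302500 rfl
  have h123 := forall_lt_step (b := 307500) h122 log_okAt305000 rfl
  have h124 := forall_lt_step (b := 310000) h123 log_okAt307500 rfl
  have h125 := forall_lt_step (b := 312500) h124 log_okAt310000 rfl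
  have h126 := forall_lt_step (b := 315000) h125 log_okAt312500 rfl
  have h127 := forall_lt_step (b := 317500) h126 log_okAt315000 rfl
  have h128 := forall_lt_step (b := 320000) h127 log_okAt317500 rfl
  have h129 := forall_lt_step (b := 322500) h128 log_okAt320000 rfl
  have h130 := forall_lt_step (b := 325000) h129 log_okAt322500 rfl
  have h131 := forall_lt_step (b := 327500) h130 log_okAt325000 rfl
  have h132 := forall_lt_step (b := 330000) h131 log_okAt327500 rfl
  have h133 := forall_lt_step (b := 332500) h132 log_okAt330000 rfl
  have h134 := forall_lt_step (b := 335000) h133 log_okAt332500 rfl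
  have h135 := forall_lt_step (b := 337500) h134 log_okAt335000 rfl
  have h136 := forall_lt_step (b := 340000) h135 log_okAt337500 rfl
  have h137 := forall_lt_step (b := 342500) h136 log_okAt340000 rfl
  have h138 := forall_lt_step (b := 345000) h137 log_okAt342500 rfl
  have h139 := forall_lt_step (b := 347500) h138 log_okAt345000 rfl
  have h140 := forall_lt_step (b := 350000) h139 log_okAt347500 rfl
  have h141 := forall_lt_step (b := 352500) h140 log_okAt350000 rfl
  have h142 := forall_lt_step (b := 355000) h141 log_okAt352500 rfl
  have h143 := forall_lt_step (b := 357500) h142 log_okAt355000 rfl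
  have h144 := forall_lt_step (b := 360000) h143 log_okAt357500 rfl
  have h145 := forall_lt_step (b := 362500) h144 log_okAt360000 rfl
  have h146 := forall_lt_step (b := 365000) h145 log_okAt362500 rfl
  have h147 := forall_lt_step (b := 367500) h146 log_okAt365000 rfl
  have h148 := forall_lt_step (b := 370000) h147 log_okAt367500 rfl
  have h149 := forall_lt_step (b := 372500) h148 log_okAt370000 rfl
  have h150 := forall_lt_step (b := 375000) h149 log_okAt372500 rfl
  have h151 := forall_lt_step (b := 377500) h150 log_okAt375000 rfl
  have h152 := forall_lt_step (b := 380000) h151 log_okAt377500 rfl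
  have h153 := forall_lt_step (b := 382500) h152 log_okAt380000 rfl
  have h154 := forall_lt_step (b := 385000) h153 log_okAt382500 rfl
  have h155 := forall_lt_step (b := 387500) h154 log_okAt385000 rfl
  have h156 := forall_lt_step (b := 390000) h155 log_okAt387500 rfl
  have h157 := forall_lt_step (b := 392500) h156 log_okAt390000 rfl
  have h158 := forall_lt_step (b := 395000) h157 log_okAt392500 rfl
  have h159 := forall_lt_step (b := 397500) h158 log_okAt395000 rfl
  have h160 := forall_lt_step (b := 400000) h159 log_okAt397500 rfl
  have h161 := forall_lt_step (b := 402500) h160 log_okAt400000 rfl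
  have h162 := forall_lt_step (b := 405000) h161 log_okAt402500 rfl
  have h163 := forall_lt_step (b := 407500) h162 log_okAt405000 rfl
  have h164 := forall_lt_step (b := 410000) h163 log_okAt407500 rfl
  have h165 := forall_lt_step (b := 412500) h164 log_okAt410000 rfl
  have h166 := forall_lt_step (b := 415000) h165 log_okAt412500 rfl
  have h167 := forall_lt_step (b := 417500) h166 log_okAt415000 rfl
  have h168 := forall_lt_step (b := 420000) h167 log_okAt417500 rfl
  have h169 := forall_lt_step (b := 422500) h168 log_okAt420000 rfl
  have h170 := forall_lt_step (b := 425000) h169 log_okAt422500 rfl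
  have h171 := forall_lt_step (b := 427500) h170 log_okAt425000 rfl
  have h172 := forall_lt_step (b := 430000) h171 log_okAt427500 rfl
  have h173 := forall_lt_step (b := 432500) h172 log_okAt430000 rfl
  have h174 := forall_lt_step (b := 435000) h173 log_okAt432500 rfl
  have h175 := forall_lt_step (b := 437500) h174 log_okAt435000 rfl
  have h176 := forall_lt_step (b := 440000) h175 log_okAt437500 rfl
  have h177 := forall_lt_step (b := 442500) h176 log_okAt440000 rfl
  have h178 := forall_lt_step (b := 445000) h177 log_okAt442500 rfl
  have h179 := forall_lt_step (b := 447500) h178 log_okAt445000 rfl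
  have h180 := forall_lt_step (b := 450000) h179 log_okAt447500 rfl
  have h181 := forall_lt_step (b := 452500) h180 log_okAt450000 rfl
  have h182 := forall_lt_step (b := 455000) h181 log_okAt452500 rfl
  have h183 := forall_lt_step (b := 457500) h182 log_okAt455000 rfl
  have h184 := forall_lt_step (b := 460000) h183 log_okAt457500 rfl
  have h185 := forall_lt_step (b := 462500) h184 log_okAt460000 rfl
  have h186 := forall_lt_step (b := 465000) h185 log_okAt462500 rfl
  have h187 := forall_lt_step (b := 467500) h186 log_okAt465000 rfl
  have h188 := forall_lt_step (b := 470000) h187 log_okAt467500 rfl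
  have h189 := forall_lt_step (b := 472500) h188 log_okAt470000 rfl
  have h190 := forall_lt_step (b := 475000) h189 log_okAt472500 rfl
  have h191 := forall_lt_step (b := 477500) h190 log_okAt475000 rfl
  have h192 := forall_lt_step (b := 480000) h191 log_okAt477500 rfl
  have h193 := forall_lt_step (b := 482500) h192 log_okAt480000 rfl
  have h194 := forall_lt_step (b := 485000) h193 log_okAt482500 rfl
  have h195 := forall_lt_step (b := 487500) h194 log_okAt485000 rfl
  have h196 := forall_lt_step (b := 490000) h195 log_okAt487500 rfl
  have h197 := forall_lt_step (b := 492500) h196 log_okAt490000 rfl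
  have h198 := forall_lt_step (b := 495000) h197 log_okAt492500 rfl
  have h199 := forall_lt_step (b := 497500) h198 log_okAt495000 rfl
  have h200 := forall_lt_step (b := 500000) h199 log_okAt497500 rfl
  have h201 := forall_lt_step (b := 502500) h200 log_okAt500000 rfl
  have h202 := forall_lt_step (b := 505000) h201 log_okAt502500 rfl
  have h203 := forall_lt_step (b := 507500) h202 log_okAt505000 rfl
  have h204 := forall_lt_step (b := 510000) h203 log_okAt507500 rfl
  have h205 := forall_lt_step (b := 512500) h204 log_okAt510000 rfl
  have h206 := forall_lt_step (b := 515000) h205 log_okAt512500 rfl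
  have h207 := forall_lt_step (b := 517500) h206 log_okAt515000 rfl
  have h208 := forall_lt_step (b := 520000) h207 log_okAt517500 rfl
  have h209 := forall_lt_step (b := 522500) h208 log_okAt520000 rfl
  have h210 := forall_lt_step (b := 525000) h209 log_okAt522500 rfl
  have h211 := forall_lt_step (b := 527500) h210 log_okAt525000 rfl
  have h212 := forall_lt_step (b := 530000) h211 log_okAt527500 rfl
  have h213 := forall_lt_step (b := 532500) h212 log_okAt530000 rfl
  have h214 := forall_lt_step (b := 535000) h213 log_okAt532500 rfl
  have h215 := forall_lt_step (b := 537500) h214 log_okAt535000 rfl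
  have h216 := forall_lt_step (b := 540000) h215 log_okAt537500 rfl
  have h217 := forall_lt_step (b := 542500) h216 log_okAt540000 rfl
  have h218 := forall_lt_step (b := 545000) h217 log_okAt542500 rfl
  have h219 := forall_lt_step (b := 547500) h218 log_okAt545000 rfl
  have h220 := forall_lt_step (b := 550000) h219 log_okAt547500 rfl
  have h221 := forall_lt_step (b := 552500) h220 log_okAt550000 rfl
  have h222 := forall_lt_step (b := 555000) h221 log_okAt552500 rfl
  have h223 := forall_lt_step (b := 557500) h222 log_okAt555000 rfl
  have h224 := forall_lt_step (b := 560000) h223 log_okAt557500 rfl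
  have h225 := forall_lt_step (b := 562500) h224 log_okAt560000 rfl
  have h226 := forall_lt_step (b := 565000) h225 log_okAt562500 rfl
  have h227 := forall_lt_step (b := 567500) h226 log_okAt565000 rfl
  have h228 := forall_lt_step (b := 570000) h227 log_okAt567500 rfl
  have h229 := forall_lt_step (b := 572500) h228 log_okAt570000 rfl
  have h230 := forall_lt_step (b := 575000) h229 log_okAt572500 rfl
  have h231 := forall_lt_step (b := 577500) h230 log_okAt575000 rfl
  have h232 := forall_lt_step (b := 580000) h231 log_okAt577500 rfl
  have h233 := forall_lt_step (b := 582500) h232 log_okAt580000 rfl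
  have h234 := forall_lt_step (b := 585000) h233 log_okAt582500 rfl
  have h235 := forall_lt_step (b := 587500) h234 log_okAt585000 rfl
  have h236 := forall_lt_step (b := 590000) h235 log_okAt587500 rfl
  have h237 := forall_lt_step (b := 592500) h236 log_okAt590000 rfl
  have h238 := forall_lt_step (b := 595000) h237 log_okAt592500 rfl
  have h239 := forall_lt_step (b := 597500) h238 log_okAt595000 rfl
  have h240 := forall_lt_step (b := 600000) h239 log_okAt597500 rfl
  have h241 := forall_lt_step (b := 602500) h240 log_okAt600000 rfl
  have h242 := forall_lt_step (b := 605000) h241 log_okAt602500 rfl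
  have h243 := forall_lt_step (b := 607500) h242 log_okAt605000 rfl
  have h244 := forall_lt_step (b := 610000) h243 log_okAt607500 rfl
  have h245 := forall_lt_step (b := 612500) h244 log_okAt610000 rfl
  have h246 := forall_lt_step (b := 615000) h245 log_okAt612500 rfl
  have h247 := forall_lt_step (b := 617500) h246 log_okAt615000 rfl
  have h248 := forall_lt_step (b := 620000) h247 log_okAt617500 rfl
  have h249 := forall_lt_step (b := 622500) h248 log_okAt620000 rfl
  have h250 := forall_lt_step (b := 625000) h249 log_okAt622500 rfl
  have h251 := forall_lt_step (b := 627500) h250 log_okAt625000 rfl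
  have h252 := forall_lt_step (b := 630000) h251 log_okAt627500 rfl
  have h253 := forall_lt_step (b := 632500) h252 log_okAt630000 rfl
  have h254 := forall_lt_step (b := 635000) h253 log_okAt632500 rfl
  have h255 := forall_lt_step (b := 637500) h254 log_okAt635000 rfl
  have h256 := forall_lt_step (b := 640000) h255 log_okAt637500 rfl
  have h257 := forall_lt_step (b := 642500) h256 log_okAt640000 rfl
  have h258 := forall_lt_step (b := 645000) h257 log_okAt642500 rfl
  have h259 := forall_lt_step (b := 647500) h258 log_okAt645000 rfl
  have h260 := forall_lt_step (b := 650000) h259 log_okAt647500 rfl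
  have h261 := forall_lt_step (b := 652500) h260 log_okAt650000 rfl
  have h262 := forall_lt_step (b := 655000) h261 log_okAt652500 rfl
  have h263 := forall_lt_step (b := 657500) h262 log_okAt655000 rfl
  have h264 := forall_lt_step (b := 660000) h263 log_okAt657500 rfl
  have h265 := forall_lt_step (b := 662500) h264 log_okAt660000 rfl
  have h266 := forall_lt_step (b := 665000) h265 log_okAt662500 rfl
  have h267 := forall_lt_step (b := 667500) h266 log_okAt665000 rfl
  have h268 := forall_lt_step (b := 670000) h267 log_okAt667500 rfl
  have h269 := forall_lt_step (b := 672500) h268 log_okAt670000 rfl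
  have h270 := forall_lt_step (b := 675000) h269 log_okAt672500 rfl
  have h271 := forall_lt_step (b := 677500) h270 log_okAt675000 rfl
  have h272 := forall_lt_step (b := 680000) h271 log_okAt677500 rfl
  have h273 := forall_lt_step (b := 682500) h272 log_okAt680000 rfl
  have h274 := forall_lt_step (b := 685000) h273 log_okAt682500 rfl
  have h275 := forall_lt_step (b := 687500) h274 log_okAt685000 rfl
  have h276 := forall_lt_step (b := 690000) h275 log_okAt687500 rfl
  have h277 := forall_lt_step (b := 692500) h276 log_okAt690000 rfl
  have h278 := forall_lt_step (b := 695000) h277 log_okAt692500 rfl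
  have h279 := forall_lt_step (b := 697500) h278 log_okAt695000 rfl
  have h280 := forall_lt_step (b := 700000) h279 log_okAt697500 rfl
  have h281 := forall_lt_step (b := 702500) h280 log_okAt700000 rfl
  have h282 := forall_lt_step (b := 705000) h281 log_okAt702500 rfl
  have h283 := forall_lt_step (b := 707500) h282 log_okAt705000 rfl
  have h284 := forall_lt_step (b := 710000) h283 log_okAt707500 rfl
  have h285 := forall_lt_step (b := 712500) h284 log_okAt710000 rfl
  have h286 := forall_lt_step (b := 715000) h285 log_okAt712500 rfl
  have h287 := forall_lt_step (b := 717500) h286 log_okAt715000 rfl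
  have h288 := forall_lt_step (b := 720000) h287 log_okAt717500 rfl
  have h289 := forall_lt_step (b := 722500) h288 log_okAt720000 rfl
  have h290 := forall_lt_step (b := 725000) h289 log_okAt722500 rfl
  have h291 := forall_lt_step (b := 727500) h290 log_okAt725000 rfl
  have h292 := forall_lt_step (b := 730000) h291 log_okAt727500 rfl
  have h293 := forall_lt_step (b := 732500) h292 log_okAt730000 rfl
  have h294 := forall_lt_step (b := 735000) h293 log_okAt732500 rfl
  have h295 := forall_lt_step (b := 737500) h294 log_okAt735000 rfl
  have h296 := forall_lt_step (b := 740000) h295 log_okAt737500 rfl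
  have h297 := forall_lt_step (b := 742500) h296 log_okAt740000 rfl
  have h298 := forall_lt_step (b := 745000) h297 log_okAt742500 rfl
  have h299 := forall_lt_step (b := 747500) h298 log_okAt745000 rfl
  have h300 := forall_lt_step (b := 750000) h299 log_okAt747500 rfl
  have h301 := forall_lt_step (b := 752500) h300 log_okAt750000 rfl
  have h302 := forall_lt_step (b := 755000) h301 log_okAt752500 rfl
  have h303 := forall_lt_step (b := 757500) h302 log_okAt755000 rfl
  have h304 := forall_lt_step (b := 760000) h303 log_okAt757500 rfl
  have h305 := forall_lt_step (b := 762500) h304 log_okAt760000 rfl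
  have h306 := forall_lt_step (b := 765000) h305 log_okAt762500 rfl
  have h307 := forall_lt_step (b := 767500) h306 log_okAt765000 rfl
  have h308 := forall_lt_step (b := 770000) h307 log_okAt767500 rfl
  have h309 := forall_lt_step (b := 772500) h308 log_okAt770000 rfl
  have h310 := forall_lt_step (b := 775000) h309 log_okAt772500 rfl
  have h311 := forall_lt_step (b := 777500) h310 log_okAt775000 rfl
  have h312 := forall_lt_step (b := 780000) h311 log_okAt777500 rfl
  have h313 := forall_lt_step (b := 782500) h312 log_okAt780000 rfl
  have h314 := forall_lt_step (b := 785000) h313 log_okAt782500 rfl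
  have h315 := forall_lt_step (b := 787500) h314 log_okAt785000 rfl
  have h316 := forall_lt_step (b := 790000) h315 log_okAt787500 rfl
  have h317 := forall_lt_step (b := 792500) h316 log_okAt790000 rfl
  have h318 := forall_lt_step (b := 795000) h317 log_okAt792500 rfl
  have h319 := forall_lt_step (b := 797500) h318 log_okAt795000 rfl
  have h320 := forall_lt_step (b := 799512) h319 log_okAt797500 rfl
  exact h320

end Cfsg.Agent.CosetCert.ONIndex122760
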