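import Cfsg.Agent.CosetCert.ONIndex122760.Defs

/-! Generated: kernel checks. -/

set_option Elab.async false

namespace Cfsg.Agent.CosetCert.ONIndex122760

theorem rels_okAt120000 : allFrom data.checkRels 120000 500 = true := by decide +kernel

theorem rels_okAt120500 : allFrom data.checkRels 120500 500 = true := by decide +kernel

theorem rels_okAt121000 : allFrom data.checkRels 121000 500 = true := by decide +kernel

theorem rels_okAt121500 : allFrom data.checkRels 121500 500 = true := by decide +kernel

theorem rels_okAt122000 : allFrom data.checkRels 122000 500 = true := by decide +kernel

theorem rels_okAt122500 : allFrom data.checkRels 122500 260 = true := by decide +kernel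

end Cfsg.Agent.CosetCert.ONIndex122760
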