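import Cfsg.Agent.CosetCert.ONIndex122760.JustData7

/-! Generated: the justifications. -/

set_option Elab.async false

namespace Cfsg.Agent.CosetCert.ONIndex122760

def justStore_1015 : Store := (.node 12468 justStore_1013 justStore_1014)

def justStore_1016 : Store := (.node 12444 justStore_1012 justStore_1015)

def justStore_1017 : Store := (.node 12395 justStore_1009 justStore_1016)

def justStore_1018 : Store := (.node 12297 justStore_1002 justStore_1017)

def justStore_1019 : Store := (.node 12102 justStore_987 justStore_1018)

def justStore_1020 : Store := (.node 11712 justStore_956 justStore_1019)

def justStore_1021 : Store := (.node 10931 justStore_893 justStore_1020)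

def justStore_1022 : Store := (.node 9369 justStore_766 justStore_1021)

def justStore : Store := (.node 6246 justStore_511 justStore_1022)

end Cfsg.Agent.CosetCert.ONIndex122760
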