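import Cfsg.Agent.CosetCert.ONIndex122760.Cert
import Cfsg.Agent.CosetCert.ONIndex122760.Orbit0Data
import Cfsg.Agent.CosetCert.ONIndex122760.Orbit1Data
import Cfsg.Agent.CosetCert.ONIndex122760.Orbit2Data
import Cfsg.Agent.CosetCert.ONIndex122760.Orbit3Data

/-! Generated: the index. -/

set_option maxRecDepth 100000

namespace Cfsg.Agent.CosetCert.ONIndex122760

theorem spells : Data.Spells data (Cfsg.Spor.coxRelators Cfsg.Spor.ON.edges ∪ {r | r ∈ Cfsg.Spor.ON.extra})
    subGens enc dec (coxWords genList Cfsg.Spor.ON.edges Cfsg.Spor.ON.extra) := by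
  apply spells_cox_extra data genList
  · decide +kernel
  · decide +kernel
  · intro z; cases z <;> exact ⟨by decide +kernel, by decide +kernel⟩
  · show ∀ x, x < 8 → _
    intro x hx
    interval_cases x <;> decide +kernel
  · show ∀ x, x < 8 → _
    intro x hx
    interval_cases x <;> first
      | exact Or.inl (by decide +kernel)
      | exact Or.inr ⟨_, by decide, rfl, rfl⟩
  · decide +kernel
  · decide +kernel

theorem index_val : (Data.sub (Cfsg.Spor.coxRelators Cfsg.Spor.ON.edges ∪ {r | r ∈ Cfsg.Spor.ON.extra})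
    subGens).index = 122760 :=
  Data.index_eq valid spells

end Cfsg.Agent.CosetCert.ONIndex122760
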